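import Mathlib

/-!
Regular nilpotent endomorphisms (kernel of dimension at most one): cyclic bases, conjugacy and
centralisers.
-/

set_option autoImplicit false

namespace Cfsg.Agent.Lib.Similarity

open Module

variable {F : Type*} [Field F] {V : Type*} [AddCommGroup V] [Module F V] {n : ℕ}

theorem linearIndependent_pow_apply (N : Module.End F V) {m : ℕ} {v : V}
    (h1 : (N ^ m) v ≠ 0) (h2 : (N ^ (m + 1)) v = 0) :
    LinearIndependent F (fun i : Fin (m + 1) => (N ^ (i : ℕ)) v) := by
  classical
  have hz : ∀ j, m + 1 ≤ j → (N ^ j) v = 0 := by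
    intro j hj
    rw [show j = (j - (m + 1)) + (m + 1) by omega, pow_add, Module.End.mul_apply, h2, map_zero]
  rw [Fintype.linearIndependent_iff]
  intro c hc
  suffices H : ∀ k : ℕ, ∀ i : Fin (m + 1), (i : ℕ) = k → c i = 0 from fun i => H _ i rfl
  intro k
  induction k using Nat.strong_induction_on with
  | _ k ih =>
    intro i hi
    have h := congrArg (N ^ (m - k)) hc
    rw [map_zero, map_sum, Finset.sum_eq_single i] at h
    · rw [map_smul, ← Module.End.mul_apply, ← pow_add, hi,
        Nat.sub_add_cancel (by omega : k ≤ m)] at h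
      exact (smul_eq_zero.1 h).resolve_right h1
    · intro j _ hj
      rw [map_smul, ← Module.End.mul_apply, ← pow_add]
      rcases lt_or_gt_of_ne (show (j : ℕ) ≠ k from fun e => hj (Fin.ext (e.trans hi.symm))) with hjk | hjk
      · rw [ih _ hjk j rfl, zero_smul]
      · rw [hz _ (by omega), smul_zero]
    · intro hni
      exact absurd (Finset.mem_univ i) hni

variable [FiniteDimensional F V]

theorem finrank_ker_pow_le' (N : Module.End F V)
    (h : Module.finrank F (LinearMap.ker N) ≤ 1) (k : ℕ) :
    Module.finrank F (LinearMap.ker (N ^ k)) ≤ k := by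
  induction k with
  | zero =>
      have : LinearMap.ker (N ^ 0) = ⊥ := by
        rw [pow_zero]; exact LinearMap.ker_id
      rw [this, finrank_bot]
  | succ k ih =>
      let S := LinearMap.ker (N ^ (k + 1))
      let φ : S →ₗ[F] V := N.domRestrict S
      have hr := LinearMap.finrank_range_add_finrank_ker φ
      have h1 : Module.finrank F (LinearMap.range φ) ≤ k := by
        refine le_trans (Submodule.finrank_mono ?_) ih
        rintro _ ⟨x, rfl⟩
        have hx : (N ^ (k + 1)) (x : V) = 0 := x.2
        show (N ^ k) (N (x : V)) = 0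
        rw [pow_succ] at hx
        exact hx
      have h2 : Module.finrank F (LinearMap.ker φ) ≤ 1 := by
        refine le_trans ?_ h
        refine LinearMap.finrank_le_finrank_of_injective
          (f := ((S.subtype).comp (LinearMap.ker φ).subtype).codRestrict (LinearMap.ker N)
            (fun x => x.2)) ?_
        intro a b hab
        have hv := congrArg Subtype.val hab
        exact Subtype.ext (Subtype.ext hv)
      show Module.finrank F S ≤ k + 1
      omega

/-- A nilpotent endomorphism with kernel of dimension at most one has a cyclic vector. -/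
theorem exists_pow_apply_ne_zero (N : Module.End F V)
    (h : Module.finrank F (LinearMap.ker N) ≤ 1) {m : ℕ} (hm : Module.finrank F V = m + 1) :
    ∃ v, (N ^ m) v ≠ 0 := by
  by_contra hc
  push Not at hc
  have htop : LinearMap.ker (N ^ m) = ⊤ :=
    Submodule.eq_top_iff'.2 fun v => LinearMap.mem_ker.2 (hc v)
  have := finrank_ker_pow_le' N h m
  rw [htop, finrank_top] at this
  omega

/-- the kernel of `N ^ m` is a hyperplane -/
theorem finrank_ker_pow_pred (N : Module.End F V)
    (h : Module.finrank F (LinearMap.ker N) ≤ 1) {m : ℕ} (hm : Module.finrank F V = m + 1)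
    (hnil : N ^ (m + 1) = 0) : Module.finrank F (LinearMap.ker (N ^ m)) = m := by
  refine le_antisymm (finrank_ker_pow_le' N h m) ?_
  have h1 := LinearMap.finrank_range_add_finrank_ker (N ^ m)
  have h2 : Module.finrank F (LinearMap.range (N ^ m)) ≤ 1 := by
    refine le_trans (Submodule.finrank_mono ?_) h
    rintro _ ⟨x, rfl⟩
    rw [LinearMap.mem_ker, ← Module.End.mul_apply, ← pow_succ', hnil, LinearMap.zero_apply]
  omega

/-- the cyclic basis attached to a vector -/
noncomputable def cyclicBasis (N : Module.End F V) {m : ℕ} (hm : Module.finrank F V = m + 1)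
    (hnil : N ^ (m + 1) = 0) (v : V) (hv : (N ^ m) v ≠ 0) : Basis (Fin (m + 1)) F V :=
  basisOfLinearIndependentOfCardEqFinrank
    (linearIndependent_pow_apply N hv (by rw [hnil, LinearMap.zero_apply]))
    (by rw [Fintype.card_fin, hm])

theorem cyclicBasis_apply (N : Module.End F V) {m : ℕ} (hm : Module.finrank F V = m + 1)
    (hnil : N ^ (m + 1) = 0) (v : V) (hv : (N ^ m) v ≠ 0) (i : Fin (m + 1)) :
    cyclicBasis N hm hnil v hv i = (N ^ (i : ℕ)) v := by
  simp [cyclicBasis]

theorem eq_of_commute_of_apply_eq (N : Module.End F V) {m : ℕ} (hm : Module.finrank F V = m + 1)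
    (hnil : N ^ (m + 1) = 0) (v : V) (hv : (N ^ m) v ≠ 0) {S T : Module.End F V}
    (hS : Commute S N) (hT : Commute T N) (h : S v = T v) : S = T := by
  refine (cyclicBasis N hm hnil v hv).ext fun i => ?_
  rw [cyclicBasis_apply, ← Module.End.mul_apply, ← Module.End.mul_apply,
    (hS.pow_right _).eq, (hT.pow_right _).eq, Module.End.mul_apply, Module.End.mul_apply, h]

/-- Two regular nilpotent endomorphisms are similar, with prescribed images of cyclic vectors. -/
theorem exists_equiv_of_regular {W : Type*} [AddCommGroup W] [Module F W] [FiniteDimensional F W]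
    (N : Module.End F V) (M : Module.End F W) {m : ℕ}
    (hm : Module.finrank F V = m + 1) (hm' : Module.finrank F W = m + 1)
    (hnil : N ^ (m + 1) = 0) (hnil' : M ^ (m + 1) = 0)
    (v : V) (hv : (N ^ m) v ≠ 0) (w : W) (hw : (M ^ m) w ≠ 0) :
    ∃ e : V ≃ₗ[F] W, e v = w ∧ ∀ x, e (N x) = M (e x) := by
  let b := cyclicBasis N hm hnil v hv
  let b' := cyclicBasis M hm' hnil' w hw
  let e := b.equiv b' (Equiv.refl _)
  have he : ∀ i : Fin (m + 1), e ((N ^ (i : ℕ)) v) = (M ^ (i : ℕ)) w := by
    intro i
    rw [← cyclicBasis_apply N hm hnil v hv i, Basis.equiv_apply, Equiv.refl_apply,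
      cyclicBasis_apply]
  have hall : ∀ j : ℕ, e ((N ^ j) v) = (M ^ j) w := by
    intro j
    rcases lt_or_ge j (m + 1) with hj | hj
    · exact he ⟨j, hj⟩
    · rw [pow_eq_zero_of_le hj hnil, pow_eq_zero_of_le hj hnil', LinearMap.zero_apply,
        LinearMap.zero_apply, map_zero]
  refine ⟨e, by simpa using hall 0, fun x => ?_⟩
  have : (e : V →ₗ[F] W).comp N = M.comp (e : V →ₗ[F] W) := by
    refine b.ext fun i => ?_
    show e (N (b i)) = M (e (b i))
    rw [cyclicBasis_apply, hall, ← Module.End.mul_apply, ← Module.End.mul_apply, ← pow_succ',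
      ← pow_succ', hall]
  exact LinearMap.congr_fun this x

/-- An endomorphism differing from a scalar by a nilpotent has determinant a power of the scalar. -/
theorem det_of_isNilpotent_sub (T : Module.End F V) (c : F)
    (h : IsNilpotent (T - c • 1)) : LinearMap.det T = c ^ Module.finrank F V := by
  have h1 := IsNilpotent.charpoly_eq_X_pow_finrank h
  have h2 : ((T - c • 1).charpoly).eval (-c) = LinearMap.det (-c • (1 : Module.End F V) - (T - c • 1)) := by
    rw [LinearMap.charpoly, ← LinearMap.det_toMatrix (Module.Free.chooseBasis F V),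
      Matrix.eval_charpoly, map_sub]
    congr 2
    simp [Matrix.scalar_apply, Matrix.smul_one_eq_diagonal]
  rw [h1, Polynomial.eval_pow, Polynomial.eval_X] at h2
  have h3 : -c • (1 : Module.End F V) - (T - c • 1) = (-1 : F) • T := by module
  rw [h3, LinearMap.det_smul, neg_pow] at h2
  exact (mul_left_cancel₀ (pow_ne_zero _ (by simp)) h2).symm

/-- A linear map commuting with a regular nilpotent one has determinant an `n`-th power. -/
theorem exists_det_eq_pow (N : Module.End F V) {m : ℕ} (hm : Module.finrank F V = m + 1)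
    (hnil : N ^ (m + 1) = 0) (v : V) (hv : (N ^ m) v ≠ 0) (T : Module.End F V)
    (hT : Commute T N) : ∃ c : F, LinearMap.det T = c ^ (m + 1) := by
  let b := cyclicBasis N hm hnil v hv
  let c : Fin (m + 1) → F := fun i => b.repr (T v) i
  have hTv : T v = ∑ i, c i • (N ^ (i : ℕ)) v := by
    conv_lhs => rw [← b.sum_repr (T v)]
    simp only [c, b, cyclicBasis_apply]
  have hT' : T = ∑ i, c i • N ^ (i : ℕ) := by
    refine eq_of_commute_of_apply_eq N hm hnil v hv hT ?_ ?_
    · exact Commute.sum_left _ _ _ fun i _ => ((Commute.refl N).pow_left _).smul_left _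
    · rw [hTv, LinearMap.sum_apply]
      rfl
  refine ⟨c 0, ?_⟩
  refine (det_of_isNilpotent_sub T (c 0) ?_).trans (congrArg _ hm)
  have : T - c 0 • 1 = N * ∑ i : Fin m, c i.succ • N ^ (i : ℕ) := by
    rw [hT', Fin.sum_univ_succ, Finset.mul_sum]
    simp [pow_succ', smul_smul]
  rw [this]
  refine Commute.isNilpotent_mul_right ?_ ⟨_, hnil⟩
  exact Commute.sum_right _ _ _ fun i _ => ((Commute.refl N).pow_right _).smul_right _

end Cfsg.Agent.Lib.Similarity
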