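import Mathlib
import Cfsg.Agent.Lib.Similarity.RegularNilpotent

/-!
Regular nilpotent skew endomorphisms of a space with an alternating form, in odd characteristic:
the isometries commuting with one, a normal frame, and the discriminant invariant.
-/

set_option autoImplicit false

namespace Cfsg.Agent.Lib.Similarity

open Module

variable {F : Type*} [Field F] {V : Type*} [AddCommGroup V] [Module F V]

/-- the data of a regular skew nilpotent of size `k + 1` with a cyclic vector -/
structure RegSkew (B : V →ₗ[F] V →ₗ[F] F) (L : Module.End F V) (k : ℕ) (v : V) : Prop where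
  alt : ∀ x, B x x = 0
  skew : ∀ x y, B (L x) y + B x (L y) = 0
  dim : Module.finrank F V = k + 1
  nil : L ^ (k + 1) = 0
  cyc : (L ^ k) v ≠ 0

variable {B : V →ₗ[F] V →ₗ[F] F} {L : Module.End F V}

theorem skew_pow (hskew : ∀ x y, B (L x) y + B x (L y) = 0) (j : ℕ) (x y : V) :
    B ((L ^ j) x) y = (-1) ^ j * B x ((L ^ j) y) := by
  induction j generalizing x y with
  | zero => simp
  | succ j ih =>
      have h := hskew ((L ^ j) x) y
      have ey : (L ^ (j + 1)) y = (L ^ j) (L y) := by rw [pow_succ, Module.End.mul_apply]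
      have ex : (L ^ (j + 1)) x = L ((L ^ j) x) := by rw [pow_succ', Module.End.mul_apply]
      rw [ey, ex, show B (L ((L ^ j) x)) y = -B ((L ^ j) x) (L y) by linear_combination h, ih,
        pow_succ]
      ring

/-- even moments vanish -/
theorem moment_even (halt : ∀ x, B x x = 0) (hskew : ∀ x y, B (L x) y + B x (L y) = 0) (j : ℕ) (x : V) :
    B x ((L ^ (2 * j)) x) = 0 := by
  have h := skew_pow hskew j x ((L ^ j) x)
  rw [halt, ← Module.End.mul_apply, ← pow_add, ← two_mul] at h
  exact (mul_eq_zero.1 h.symm).resolve_left (pow_ne_zero _ (by simp))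

variable [FiniteDimensional F V] {k : ℕ} {v : V}

theorem RegSkew.coeff_unique (h : RegSkew B L k v) {a b : Fin (k + 1) → F}
    (hab : ∑ i, a i • L ^ (i : ℕ) = ∑ i, b i • L ^ (i : ℕ)) : a = b := by
  have h1 := LinearMap.congr_fun hab v
  simp only [LinearMap.sum_apply, LinearMap.smul_apply] at h1
  have hli := linearIndependent_pow_apply L h.cyc (by rw [h.nil]; rfl)
  funext i
  have h2 := Fintype.linearIndependent_iff.1 hli (a - b)
    (by simp only [Pi.sub_apply, sub_smul, Finset.sum_sub_distrib]; rw [h1, sub_self]) i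
  exact sub_eq_zero.1 h2

theorem RegSkew.exists_poly (h : RegSkew B L k v) {T : Module.End F V} (hT : Commute T L) :
    ∃ a : Fin (k + 1) → F, T = ∑ i, a i • L ^ (i : ℕ) := by
  let b := cyclicBasis L h.dim h.nil v h.cyc
  refine ⟨fun i => b.repr (T v) i, eq_of_commute_of_apply_eq L h.dim h.nil v h.cyc hT ?_ ?_⟩
  · exact Commute.sum_left _ _ _ fun i _ => ((Commute.refl L).pow_left _).smul_left _
  · conv_lhs => rw [← b.sum_repr (T v)]
    rw [LinearMap.sum_apply]
    simp only [b, cyclicBasis_apply, LinearMap.smul_apply]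

theorem RegSkew.adjoint_poly (h : RegSkew B L k v) (a : Fin (k + 1) → F) (x y : V) :
    B ((∑ i, a i • L ^ (i : ℕ)) x) y = B x ((∑ i : Fin (k + 1), ((-1) ^ (i : ℕ) * a i) • L ^ (i : ℕ)) y) := by
  simp only [LinearMap.sum_apply, LinearMap.smul_apply, map_sum, map_smul, LinearMap.sum_apply,
    smul_eq_mul]
  refine Finset.sum_congr rfl fun i _ => ?_
  rw [skew_pow h.skew]
  ring

/-- the odd polynomial with given coefficients -/
def oddPoly (L : Module.End F V) {m : ℕ} (c : Fin m → F) : Module.End F V :=
  ∑ i, c i • L ^ (2 * (i : ℕ) + 1)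

omit [FiniteDimensional F V] in
theorem oddPoly_commute (L : Module.End F V) {m : ℕ} (c : Fin m → F) : Commute (oddPoly L c) L :=
  Commute.sum_left _ _ _ fun i _ => ((Commute.refl L).pow_left _).smul_left _

omit [FiniteDimensional F V] in
theorem oddPoly_skew (hskew : ∀ x y, B (L x) y + B x (L y) = 0) {m : ℕ} (c : Fin m → F) (x y : V) :
    B (oddPoly L c x) y + B x (oddPoly L c y) = 0 := by
  simp only [oddPoly, LinearMap.sum_apply, LinearMap.smul_apply, map_sum, map_smul, smul_eq_mul]
  rw [← Finset.sum_add_distrib]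
  refine Finset.sum_eq_zero fun i _ => ?_
  rw [skew_pow hskew, Odd.neg_one_pow ⟨(i : ℕ), rfl⟩]
  ring

omit [FiniteDimensional F V] in
theorem oddPoly_isNilpotent (hnil : IsNilpotent L) {m : ℕ} (c : Fin m → F) :
    IsNilpotent (oddPoly L c) := by
  have : oddPoly L c = L * ∑ i : Fin m, c i • L ^ (2 * (i : ℕ)) := by
    simp [oddPoly, Finset.mul_sum, pow_succ']
  rw [this]
  exact (Commute.sum_right _ _ _ fun i _ => ((Commute.refl L).pow_right _).smul_right _).isNilpotent_mul_right
    hnil

/-- A commuting skew endomorphism is an odd polynomial. -/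
theorem RegSkew.exists_oddPoly {m : ℕ} (hk : k + 1 = 2 * m) (h2 : (2 : F) ≠ 0) (h : RegSkew B L k v)
    (hnd : ∀ y, (∀ x, B x y = 0) → y = 0) {X : Module.End F V} (hX : Commute X L)
    (hXskew : ∀ x y, B (X x) y + B x (X y) = 0) : ∃ c : Fin m → F, X = oddPoly L c := by
  obtain ⟨a, ha⟩ := h.exists_poly hX
  have h0 : ∑ i : Fin (k + 1), ((-1) ^ (i : ℕ) * a i + a i) • L ^ (i : ℕ) = ∑ i : Fin (k + 1), (0 : F) • L ^ (i : ℕ) := by
    simp only [zero_smul, Finset.sum_const_zero]
    refine LinearMap.ext fun y => hnd _ fun x => ?_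
    have h1 := hXskew x y
    rw [ha, h.adjoint_poly] at h1
    simp only [add_smul, Finset.sum_add_distrib, LinearMap.add_apply, map_add]
    exact h1
  have heven : ∀ i : Fin (k + 1), Even (i : ℕ) → a i = 0 := by
    intro i hi
    have h1 := congrFun (h.coeff_unique h0) i
    rw [hi.neg_one_pow, one_mul, ← two_mul] at h1
    exact (mul_eq_zero.1 h1).resolve_left h2
  refine ⟨fun i : Fin m => a ⟨2 * (i : ℕ) + 1, by omega⟩, ?_⟩
  rw [ha, oddPoly]
  refine (Finset.sum_of_injOn (fun i : Fin m => (⟨2 * (i : ℕ) + 1, by omega⟩ : Fin (k + 1))) ?_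
    (by simp) ?_ fun i _ => rfl).symm
  · intro i _ j _ hij
    have := congrArg Fin.val hij
    exact Fin.ext (by simp at this; omega)
  · intro j _ hj
    rw [heven j ?_, zero_smul]
    rcases Nat.even_or_odd (j : ℕ) with he | ⟨t, ht⟩
    · exact he
    · exact absurd ⟨⟨t, by omega⟩, Finset.mem_coe.2 (Finset.mem_univ _), Fin.ext ht.symm⟩ hj

theorem RegSkew.oddPoly_injective {m : ℕ} (hk : k + 1 = 2 * m) (h : RegSkew B L k v) :
    Function.Injective (oddPoly L (m := m)) := by
  intro c c' hcc
  have key : ∀ d : Fin m → F, oddPoly L d = ∑ j : Fin (k + 1),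
      (if hj : Odd (j : ℕ) then d ⟨(j : ℕ) / 2, by omega⟩ else 0) • L ^ (j : ℕ) := by
    intro d
    rw [oddPoly]
    refine Finset.sum_of_injOn (fun i : Fin m => (⟨2 * (i : ℕ) + 1, by omega⟩ : Fin (k + 1))) ?_
      (by simp) ?_ ?_
    · intro i _ j _ hij
      have := congrArg Fin.val hij
      exact Fin.ext (by simp at this; omega)
    · intro j _ hj
      rw [dif_neg, zero_smul]
      rintro ⟨t, ht⟩
      exact hj ⟨⟨t, by omega⟩, Finset.mem_coe.2 (Finset.mem_univ _), Fin.ext ht.symm⟩
    · intro i _
      have hodd : Odd (2 * (i : ℕ) + 1) := ⟨(i : ℕ), rfl⟩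
      rw [dif_pos hodd]
      congr 2
      exact Fin.ext (show (i : ℕ) = (2 * (i : ℕ) + 1) / 2 by omega)
  rw [key, key] at hcc
  funext i
  have h1 := congrFun (h.coeff_unique hcc) ⟨2 * (i : ℕ) + 1, by omega⟩
  have hodd : Odd (2 * (i : ℕ) + 1) := ⟨(i : ℕ), rfl⟩
  rw [dif_pos hodd, dif_pos hodd] at h1
  have hi : (⟨(2 * (i : ℕ) + 1) / 2, by omega⟩ : Fin m) = i :=
    Fin.ext (show (2 * (i : ℕ) + 1) / 2 = (i : ℕ) by omega)
  rwa [hi] at h1

/-- the isometries commuting with `L` -/
def commIsom (B : V →ₗ[F] V →ₗ[F] F) (L : Module.End F V) : Type _ :=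
  {T : Module.End F V // Commute T L ∧ ∀ x y, B (T x) (T y) = B x y}

/-- The isometries commuting with a regular skew nilpotent: `2 q ^ m` of them. -/
theorem RegSkew.natCard_commIsom [Fintype F] {m : ℕ} (hk : k + 1 = 2 * m) (h2 : (2 : F) ≠ 0)
    (h : RegSkew B L k v) (hnd : ∀ y, (∀ x, B x y = 0) → y = 0) :
    Nat.card (commIsom B L) = 2 * Fintype.card F ^ m := by
  classical
  have hnilL : IsNilpotent L := ⟨_, h.nil⟩
  have hunit : ∀ c : Fin m → F, IsUnit (1 - oddPoly L c) ∧ IsUnit (1 + oddPoly L c) := fun c =>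
    ⟨(oddPoly_isNilpotent hnilL c).isUnit_one_sub, (oddPoly_isNilpotent hnilL c).isUnit_one_add⟩
  let sg : Bool → F := fun ε => if ε then 1 else -1
  let cay : Bool → (Fin m → F) → Module.End F V := fun ε c =>
    sg ε • ((1 + oddPoly L c) * ((hunit c).1.unit⁻¹ : (Module.End F V)ˣ))
  have hc1 : ∀ c, Commute ((hunit c).1.unit⁻¹ : (Module.End F V)ˣ).1 L := by
    intro c
    refine Commute.units_inv_left ?_
    rw [IsUnit.unit_spec]
    exact (Commute.one_left _).sub_left (oddPoly_commute L c)
  have happ : ∀ ε c z, cay ε c ((1 - oddPoly L c) z) = sg ε • (1 + oddPoly L c) z := by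
    intro ε c z
    have h1 := LinearMap.congr_fun (hunit c).1.val_inv_mul z
    simp only [Module.End.mul_apply] at h1
    simp only [cay, LinearMap.smul_apply, Module.End.mul_apply, h1, Module.End.one_apply]
  have hmem : ∀ ε c, Commute (cay ε c) L ∧ ∀ x y, B (cay ε c x) (cay ε c y) = B x y := by
    intro ε c
    refine ⟨((((Commute.one_left _).add_left (oddPoly_commute L c)).mul_left (hc1 c))).smul_left _, ?_⟩
    have hsur : Function.Surjective (1 - oddPoly L c : Module.End F V) :=
      ((Module.End.isUnit_iff _).1 (hunit c).1).2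
    intro x y
    obtain ⟨a, rfl⟩ := hsur x
    obtain ⟨b, rfl⟩ := hsur y
    rw [happ, happ]
    have hs : sg ε * sg ε = 1 := by cases ε <;> simp [sg]
    simp only [map_smul, LinearMap.smul_apply, smul_eq_mul, LinearMap.add_apply, LinearMap.sub_apply,
      Module.End.one_apply, map_add, map_sub]
    have hsk := oddPoly_skew h.skew c a b
    linear_combination (B a b + B a (oddPoly L c b) + B (oddPoly L c a) b +
      B (oddPoly L c a) (oddPoly L c b)) * hs + 2 * hsk
  let Φ : Bool × (Fin m → F) → commIsom B L := fun p => ⟨cay p.1 p.2, hmem p.1 p.2⟩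
  have hv0 : v ≠ 0 := fun h0 => h.cyc (by rw [h0, map_zero])
  have hbij : Function.Bijective Φ := by
    constructor
    · rintro ⟨ε, c⟩ ⟨ε', c'⟩ hp
      have he : ∀ z, cay ε c z = cay ε' c' z := fun z =>
        LinearMap.congr_fun (congrArg Subtype.val hp) z
      -- the sign is read off on the kernel vector
      have hfix : ∀ δ d, cay δ d ((L ^ k) v) = sg δ • (L ^ k) v := by
        intro δ d
        have hz : oddPoly L d ((L ^ k) v) = 0 := by
          simp only [oddPoly, LinearMap.sum_apply, LinearMap.smul_apply]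
          refine Finset.sum_eq_zero fun i _ => ?_
          rw [← Module.End.mul_apply, ← pow_add, pow_eq_zero_of_le (by omega) h.nil,
            LinearMap.zero_apply, smul_zero]
        have := happ δ d ((L ^ k) v)
        simpa [LinearMap.sub_apply, LinearMap.add_apply, hz] using this
      have hε : ε = ε' := by
        have h1 := he ((L ^ k) v)
        rw [hfix, hfix] at h1
        have h3 : sg ε = sg ε' := smul_left_injective F h.cyc h1
        rcases ε <;> rcases ε' <;> simp [sg] at h3 ⊢
        · exact h2 (by linear_combination -h3)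
        · exact h2 (by linear_combination h3)
      subst hε
      refine Prod.ext rfl (h.oddPoly_injective hk ?_)
      have hsne : sg ε ≠ 0 := by cases ε <;> simp [sg]
      have h3 : (1 + oddPoly L c) * ((hunit c).1.unit⁻¹ : (Module.End F V)ˣ) =
          (1 + oddPoly L c') * ((hunit c').1.unit⁻¹ : (Module.End F V)ˣ) :=
        smul_right_injective _ hsne (LinearMap.ext he)
      -- `oddPoly L c` is recovered from the Cayley transform
      have hcc : Commute (1 - oddPoly L c') (1 - oddPoly L c) := by
        refine ((Commute.one_left _).sub_left ((Commute.one_right _).sub_right ?_))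
        refine Commute.sum_left _ _ _ fun i _ => (Commute.smul_left ?_ _)
        exact Commute.sum_right _ _ _ fun j _ => ((Commute.refl L).pow_pow _ _).smul_right _
      have h4 : (1 + oddPoly L c) * (1 - oddPoly L c') = (1 + oddPoly L c') * (1 - oddPoly L c) :=
        calc (1 + oddPoly L c) * (1 - oddPoly L c')
            = (1 + oddPoly L c) * (((hunit c).1.unit⁻¹ : (Module.End F V)ˣ) * (1 - oddPoly L c)) *
                (1 - oddPoly L c') := by rw [(hunit c).1.val_inv_mul, mul_one]
          _ = (1 + oddPoly L c) * ((hunit c).1.unit⁻¹ : (Module.End F V)ˣ) *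
                ((1 - oddPoly L c) * (1 - oddPoly L c')) := by simp only [mul_assoc]
          _ = (1 + oddPoly L c') * ((hunit c').1.unit⁻¹ : (Module.End F V)ˣ) *
                ((1 - oddPoly L c') * (1 - oddPoly L c)) := by rw [h3, hcc.eq]
          _ = (1 + oddPoly L c') * (((hunit c').1.unit⁻¹ : (Module.End F V)ˣ) * (1 - oddPoly L c')) *
                (1 - oddPoly L c) := by simp only [mul_assoc]
          _ = _ := by rw [(hunit c').1.val_inv_mul, mul_one]
      have hcc2 : oddPoly L c * oddPoly L c' = oddPoly L c' * oddPoly L c := by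
        refine (Commute.sum_left _ _ _ fun i _ => (Commute.smul_left ?_ _)).eq
        exact Commute.sum_right _ _ _ fun j _ => ((Commute.refl L).pow_pow _ _).smul_right _
      have h5 : (2 : F) • (oddPoly L c - oddPoly L c') = 0 := by
        have h6 : (1 + oddPoly L c) * (1 - oddPoly L c') - (1 + oddPoly L c') * (1 - oddPoly L c) = 0 :=
          sub_eq_zero.2 h4
        rw [add_mul, add_mul, mul_sub, mul_sub, mul_sub, mul_sub, one_mul, one_mul, mul_one, mul_one,
          one_mul, hcc2] at h6
        rw [two_smul, ← h6]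
        abel
      exact sub_eq_zero.1 ((smul_eq_zero.1 h5).resolve_left h2)
    · rintro ⟨T, hT, hiso⟩
      obtain ⟨a, ha⟩ := h.exists_poly hT
      -- the constant coefficient is a sign
      let a0 : F := a 0
      have hTnil : IsNilpotent (T - a0 • 1) := by
        have h1 : T - a0 • 1 = L * ∑ i : Fin k, a i.succ • L ^ (i : ℕ) := by
          rw [ha, Fin.sum_univ_succ, Finset.mul_sum]
          simp [a0, pow_succ']
        rw [h1]
        exact (Commute.sum_right _ _ _ fun i _ => ((Commute.refl L).pow_right _).smul_right _).isNilpotent_mul_right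
          hnilL
      have hTk : T ((L ^ k) v) = a0 • (L ^ k) v := by
        rw [ha, LinearMap.sum_apply, Finset.sum_eq_single 0]
        · simp [a0]
        · intro i _ hi
          have : (i : ℕ) ≠ 0 := fun e => hi (Fin.ext (e.trans (by simp)))
          rw [LinearMap.smul_apply, ← Module.End.mul_apply, ← pow_add,
            pow_eq_zero_of_le (by omega) h.nil, LinearMap.zero_apply, smul_zero]
        · simp
      obtain ⟨x, hx⟩ : ∃ x, B x ((L ^ k) v) ≠ 0 := by
        by_contra hc
        push Not at hc
        exact h.cyc (hnd _ hc)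
      have ha0 : a0 * a0 = 1 := by
        -- `T` acts by `a0` on the kernel line and on the top of its dual
        have h1 := hiso x ((L ^ k) v)
        rw [hTk, map_smul, smul_eq_mul] at h1
        have h3 : B (T x) ((L ^ k) v) = a0 * B x ((L ^ k) v) := by
          rw [ha, h.adjoint_poly, LinearMap.sum_apply, map_sum, Finset.sum_eq_single 0]
          · simp [a0]
          · intro i _ hi
            have : (i : ℕ) ≠ 0 := fun e => hi (Fin.ext (e.trans (by simp)))
            rw [LinearMap.smul_apply, ← Module.End.mul_apply, ← pow_add,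
              pow_eq_zero_of_le (by omega) h.nil, LinearMap.zero_apply, smul_zero, map_zero]
          · simp
        rw [h3, ← mul_assoc] at h1
        exact mul_right_cancel₀ hx (h1.trans (one_mul _).symm)
      set T0 := a0 • T with hT0
      have hN : IsNilpotent (T0 - 1) := by
        have h1 : T0 - 1 = a0 • (T - a0 • 1) := by rw [smul_sub, smul_smul, ha0, one_smul, hT0]
        rw [h1]
        exact hTnil.smul _
      have hu : IsUnit (T0 + 1) := by
        have h1 := hN.isUnit_add_left_of_commute (u := (2 : F) • (1 : Module.End F V))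
          (by
            refine ⟨⟨(2 : F) • 1, (2 : F)⁻¹ • 1, ?_, ?_⟩, rfl⟩ <;>
              rw [smul_mul_smul_comm, one_mul] <;> simp [h2])
          ((Commute.one_right _).smul_right _)
        rwa [show (2 : F) • (1 : Module.End F V) + (T0 - 1) = T0 + 1 by rw [two_smul]; abel] at h1
      set X := (T0 - 1) * (hu.unit⁻¹ : (Module.End F V)ˣ) with hXdef
      have hXapp : ∀ z, X ((T0 + 1) z) = (T0 - 1) z := by
        intro z
        have h1 := LinearMap.congr_fun hu.val_inv_mul z
        simp only [Module.End.mul_apply] at h1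
        simp only [X, Module.End.mul_apply, h1, Module.End.one_apply]
      have hXskew : ∀ x y, B (X x) y + B x (X y) = 0 := by
        intro x y
        obtain ⟨a, rfl⟩ := ((Module.End.isUnit_iff _).1 hu).2 x
        obtain ⟨b, rfl⟩ := ((Module.End.isUnit_iff _).1 hu).2 y
        rw [hXapp, hXapp]
        simp only [hT0, LinearMap.sub_apply, LinearMap.add_apply, LinearMap.smul_apply,
          Module.End.one_apply, map_sub, map_add, map_smul, smul_eq_mul, hiso]
        linear_combination (2 * B a b) * ha0
      have hXc : Commute X L := by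
        refine (((hT.smul_left _).sub_left (Commute.one_left _))).mul_left (Commute.units_inv_left ?_)
        rw [IsUnit.unit_spec]
        exact (hT.smul_left _).add_left (Commute.one_left _)
      obtain ⟨c, hc⟩ := h.exists_oddPoly hk h2 hnd hXc hXskew
      refine ⟨(decide (a0 = 1), c), Subtype.ext (LinearMap.ext fun z => ?_)⟩
      have hsg : sg (decide (a0 = 1)) = a0 := by
        rcases mul_self_eq_one_iff.1 ha0 with h1 | h1
        · simp [sg, h1]
        · have : (-1 : F) ≠ 1 := fun e => h2 (by linear_combination -e)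
          simp [sg, h1, this]
      obtain ⟨w, rfl⟩ := ((Module.End.isUnit_iff _).1 (hunit c).1).2 z
      show cay (decide (a0 = 1)) c ((1 - oddPoly L c) w) = T ((1 - oddPoly L c) w)
      rw [happ, hsg, ← hc]
      obtain ⟨u, rfl⟩ := ((Module.End.isUnit_iff _).1 hu).2 w
      have e1 : (1 + X) ((T0 + 1) u) = (2 : F) • T0 u := by
        rw [LinearMap.add_apply, Module.End.one_apply, hXapp, LinearMap.add_apply, LinearMap.sub_apply,
          two_smul]
        abel
      have e2 : (1 - X) ((T0 + 1) u) = (2 : F) • u := by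
        rw [LinearMap.sub_apply, Module.End.one_apply, hXapp, LinearMap.add_apply, LinearMap.sub_apply,
          Module.End.one_apply, two_smul]
        abel
      rw [e1, e2, map_smul, hT0, LinearMap.smul_apply, smul_smul, smul_smul]
      congr 1
      linear_combination 2 * ha0
  rw [← Nat.card_congr (Equiv.ofBijective Φ hbij), Nat.card_prod, Nat.card_fun,
    Nat.card_eq_fintype_card (α := Bool), Fintype.card_bool, Nat.card_eq_fintype_card, Nat.card_fin]

/-- A normal cyclic vector: all moments below the top one vanish. -/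
theorem exists_normal_vector {m : ℕ} (hk : k + 1 = 2 * m) (h2 : (2 : F) ≠ 0) (h : RegSkew B L k v)
    (htop : B v ((L ^ k) v) ≠ 0) :
    ∃ w, (L ^ k) w = (L ^ k) v ∧ B w ((L ^ k) w) = B v ((L ^ k) v) ∧
      ∀ i, i < k → B w ((L ^ i) w) = 0 := by
  suffices H : ∀ j, j < m → ∃ w, (L ^ k) w = (L ^ k) v ∧ B w ((L ^ k) w) = B v ((L ^ k) v) ∧
      ∀ i, k - 2 * j ≤ i → i < k → B w ((L ^ i) w) = 0 by
    obtain ⟨w, h1, h3, h4⟩ := H (m - 1) (by omega)
    refine ⟨w, h1, h3, fun i hi => ?_⟩
    rcases Nat.eq_zero_or_pos i with rfl | hi0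
    · simpa using h.alt w
    · exact h4 i (by omega) hi
  intro j
  induction j with
  | zero => exact fun _ => ⟨v, rfl, rfl, fun i h1 h3 => absurd h3 (by omega)⟩
  | succ j ih =>
      intro hj
      obtain ⟨w, h1, h3, h4⟩ := ih (by omega)
      let e := 2 * (j + 1)
      let t : F := -(B w ((L ^ (k - e)) w)) / (2 * B v ((L ^ k) v))
      let w' := w + t • (L ^ e) w
      have hev : ((-1 : F)) ^ e = 1 := Even.neg_one_pow ⟨j + 1, two_mul (j + 1)⟩
      have hexp : ∀ i, B w' ((L ^ i) w') = B w ((L ^ i) w) + 2 * t * B w ((L ^ (i + e)) w) +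
          t ^ 2 * B w ((L ^ (i + e + e)) w) := by
        intro i
        simp only [w', map_add, map_smul, LinearMap.add_apply, LinearMap.smul_apply, smul_eq_mul,
          skew_pow h.skew e, ← Module.End.mul_apply, ← pow_add, hev,
          one_mul]
        rw [show e + i = i + e by omega, show e + (i + e) = i + e + e by omega]
        ring
      have hz : ∀ i, k + 1 ≤ i → B w ((L ^ i) w) = 0 := by
        intro i hi
        rw [pow_eq_zero_of_le hi h.nil, LinearMap.zero_apply, map_zero]
      have hLk : (L ^ k) w' = (L ^ k) v := by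
        simp only [w', map_add, map_smul, ← Module.End.mul_apply, ← pow_add]
        rw [pow_eq_zero_of_le (show k + 1 ≤ k + e by omega) h.nil, LinearMap.zero_apply, smul_zero,
          add_zero, h1]
      refine ⟨w', hLk, ?_, fun i hi hik => ?_⟩
      · rw [hexp, h3, hz _ (by omega), hz _ (by omega)]
        ring
      · rcases Nat.lt_or_ge i (k - 2 * j) with hlt | hge
        · rcases (show i = k - e ∨ i = k - e + 1 by omega) with rfl | rfl
          · rw [hexp, Nat.sub_add_cancel (show e ≤ k by omega), h3, hz (k + e) (by omega)]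
            simp only [t]
            field_simp
            ring
          · obtain ⟨p, hp⟩ : ∃ p, k - e + 1 = 2 * p := ⟨m - (j + 1), by omega⟩
            rw [hp]
            exact moment_even h.alt h.skew p w'
        · rw [hexp, h4 i hge hik, hz _ (by omega), hz _ (by omega)]
          ring

/-- Two regular skew nilpotents with normalised vectors of equal top moment are isometric. -/
theorem exists_isometry_of_normal {W : Type*} [AddCommGroup W] [Module F W] [FiniteDimensional F W]
    {C : W →ₗ[F] W →ₗ[F] F} {M : Module.End F W} {w : W} (h : RegSkew B L k v) (h' : RegSkew C M k w)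
    (hv : ∀ i, i < k → B v ((L ^ i) v) = 0) (hw : ∀ i, i < k → C w ((M ^ i) w) = 0)
    (htop : B v ((L ^ k) v) = C w ((M ^ k) w)) :
    ∃ e : V ≃ₗ[F] W, (∀ x, e (L x) = M (e x)) ∧ ∀ x y, C (e x) (e y) = B x y := by
  obtain ⟨e, hev, he⟩ := exists_equiv_of_regular L M h.dim h'.dim h.nil h'.nil v h.cyc w h'.cyc
  have hpow : ∀ i x, e ((L ^ i) x) = (M ^ i) (e x) := by
    intro i
    induction i with
    | zero => simp
    | succ i ih => intro x; rw [pow_succ, pow_succ, Module.End.mul_apply, Module.End.mul_apply, ih, he]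
  refine ⟨e, he, fun x y => ?_⟩
  let b := cyclicBasis L h.dim h.nil v h.cyc
  have hB : C.compl₁₂ e.toLinearMap e.toLinearMap = B := by
    refine b.ext fun i => b.ext fun j => ?_
    rw [LinearMap.compl₁₂_apply]
    simp only [b, cyclicBasis_apply, LinearEquiv.coe_coe, hpow, hev]
    rw [skew_pow h.skew, skew_pow h'.skew, ← Module.End.mul_apply, ← Module.End.mul_apply, ← pow_add,
      ← pow_add]
    congr 1
    rcases lt_trichotomy ((i : ℕ) + (j : ℕ)) k with hlt | heq | hgt
    · rw [hv _ hlt, hw _ hlt]
    · rw [heq, htop]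
    · rw [pow_eq_zero_of_le hgt h.nil, pow_eq_zero_of_le hgt h'.nil, LinearMap.zero_apply,
        LinearMap.zero_apply, map_zero, map_zero]
  exact LinearMap.congr_fun (LinearMap.congr_fun hB x) y

end Cfsg.Agent.Lib.Similarity
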