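import Mathlib
import Cfsg.Prelude.Def_JordanBlocks
import Cfsg.Agent.Lib.OrthUnipotent.Ranks
import Cfsg.Agent.Lib.Similarity.KerDim
import Cfsg.Agent.Lib.Similarity.RegularNilpotent

/-!
Unipotent Jordan types: rank sequences of `jordanTypeMatrix`, and conjugacy of unipotent matrices is
determined by the rank sequence.
-/

set_option autoImplicit false

namespace Cfsg.Agent.Lib.Similarity

open Polynomial Cfsg.Agent.Lib.OrthUnipotent

variable {F : Type*} [Field F]

theorem finrank_range_pow_regular {V : Type*} [AddCommGroup V] [Module F V] [FiniteDimensional F V]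
    (N : Module.End F V) (h : Module.finrank F (LinearMap.ker N) ≤ 1) {d : ℕ}
    (hd : Module.finrank F V = d) (hnil : N ^ d = 0) (j : ℕ) :
    Module.finrank F (LinearMap.range (N ^ j)) = d - j := by
  have h1 := LinearMap.finrank_range_add_finrank_ker (N ^ j)
  have h2 := finrank_ker_pow_le' N h j
  have h3 : Module.finrank F (LinearMap.range (N ^ j)) ≤ d - j := by
    refine le_trans (Submodule.finrank_mono ?_) (finrank_ker_pow_le' N h (d - j))
    rintro _ ⟨x, rfl⟩
    rw [LinearMap.mem_ker, ← Module.End.mul_apply, ← pow_add,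
      pow_eq_zero_of_le (by omega) hnil, LinearMap.zero_apply]
  omega

theorem jordanBlock_sub_one_apply (d : ℕ) (i j : Fin d) :
    (Cfsg.jordanBlock d F - 1) i j = if (i : ℕ) = (j : ℕ) + 1 then 1 else 0 := by
  simp only [Matrix.sub_apply, Cfsg.jordanBlock, Matrix.of_apply, Matrix.one_apply, Fin.ext_iff]
  split_ifs <;> simp_all

theorem jordanBlock_nilpotent_regular (d : ℕ) :
    (Matrix.toLinAlgEquiv' (Cfsg.jordanBlock d F - 1)) ^ d = 0 ∧
      Module.finrank F (LinearMap.ker (Matrix.toLinAlgEquiv' (Cfsg.jordanBlock d F - 1))) ≤ 1 := by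
  set T := Matrix.toLinAlgEquiv' (Cfsg.jordanBlock d F - 1) with hT
  have happ : ∀ (v : Fin d → F) (i : Fin d),
      T v i = if h : (i : ℕ) = 0 then 0 else v ⟨(i : ℕ) - 1, by omega⟩ := by
    intro v i
    show (Cfsg.jordanBlock d F - 1).mulVec v i = _
    simp only [Matrix.mulVec, dotProduct, jordanBlock_sub_one_apply, ite_mul, one_mul, zero_mul]
    split_ifs with h
    · exact Finset.sum_eq_zero fun x _ => if_neg (by omega)
    · rw [Finset.sum_eq_single ⟨(i : ℕ) - 1, by omega⟩]
      · exact if_pos (show (i : ℕ) = (i : ℕ) - 1 + 1 by omega)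
      · intro b _ hb
        exact if_neg fun hh => hb (Fin.ext (show (b : ℕ) = (i : ℕ) - 1 by omega))
      · simp
  refine ⟨LinearMap.ext fun v => ?_, ?_⟩
  · have key : ∀ k (w : Fin d → F) (i : Fin d), (i : ℕ) < k → (T ^ k) w i = 0 := by
      intro k
      induction k with
      | zero => intro w i hi; omega
      | succ k ih =>
          intro w i hi
          rw [pow_succ', Module.End.mul_apply, happ]
          split_ifs with h
          · rfl
          · exact ih w _ (show (i : ℕ) - 1 < k by omega)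
    exact funext fun i => key d v i i.isLt
  · rcases Nat.eq_zero_or_pos d with rfl | hd
    · refine le_trans (Submodule.finrank_le _) ?_
      simp
    refine le_trans (LinearMap.finrank_le_finrank_of_injective
      (f := (LinearMap.proj (⟨d - 1, by omega⟩ : Fin d) : (Fin d → F) →ₗ[F] F) ∘ₗ
        (LinearMap.ker T).subtype) ?_) (le_of_eq (Module.finrank_self F))
    rw [injective_iff_map_eq_zero]
    intro v hv
    refine Subtype.ext (funext fun i => ?_)
    by_cases hi : (i : ℕ) + 1 < d
    · have h := congrFun (LinearMap.mem_ker.1 v.2) ⟨(i : ℕ) + 1, hi⟩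
      rw [happ, dif_neg (Nat.succ_ne_zero _)] at h
      simpa using h
    · have : i = ⟨d - 1, by omega⟩ := Fin.ext (show (i : ℕ) = d - 1 by omega)
      rw [this]
      exact hv

theorem rank_jordanBlock_sub_one_pow (d j : ℕ) :
    ((Cfsg.jordanBlock d F - 1) ^ j).rank = d - j := by
  have h := finrank_range_pow_regular _ (jordanBlock_nilpotent_regular (F := F) d).2
    (Module.finrank_fin_fun F) (jordanBlock_nilpotent_regular (F := F) d).1 j
  rw [← map_pow] at h
  exact h

theorem rank_blockDiagonal' {o : Type*} [Fintype o] [DecidableEq o] {m : o → Type*}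
    [∀ i, Fintype (m i)] [∀ i, DecidableEq (m i)] (A : ∀ i, Matrix (m i) (m i) F) :
    (Matrix.blockDiagonal' A).rank = ∑ i, (A i).rank := by
  let E : ((Σ i, m i) → F) ≃ₗ[F] (∀ i, m i → F) := LinearEquiv.piCurry F (fun i (_ : m i) => F)
  have hcomm : ∀ v i, E ((Matrix.blockDiagonal' A).mulVec v) i = (A i).mulVec (E v i) := by
    intro v i
    funext a
    show (Matrix.blockDiagonal' A).mulVec v ⟨i, a⟩ = _
    simp only [Matrix.mulVec, dotProduct, Fintype.sum_sigma]
    rw [Finset.sum_eq_single i]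
    · simp [E, LinearEquiv.piCurry, Sigma.curry]
    · intro b _ hb
      exact Finset.sum_eq_zero fun c _ => by rw [Matrix.blockDiagonal'_apply_ne _ _ _ hb.symm, zero_mul]
    · simp
  let Φ : LinearMap.range (Matrix.blockDiagonal' A).mulVecLin ≃ₗ[F]
      (∀ i, LinearMap.range (A i).mulVecLin) :=
    LinearEquiv.ofBijective
      (LinearMap.pi fun i => ((LinearMap.proj i : (∀ i, m i → F) →ₗ[F] m i → F) ∘ₗ E.toLinearMap ∘ₗ
        (LinearMap.range (Matrix.blockDiagonal' A).mulVecLin).subtype).codRestrict _ (by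
          rintro ⟨_, v, rfl⟩
          exact ⟨E v i, (hcomm v i).symm⟩))
      ⟨by
        intro x y h
        refine Subtype.ext (E.injective (funext fun i => ?_))
        exact congrArg Subtype.val (congrFun h i),
      by
        intro y
        choose v hv using fun i => (y i).2
        refine ⟨⟨_, E.symm v, rfl⟩, funext fun i => Subtype.ext ?_⟩
        show E ((Matrix.blockDiagonal' A).mulVec (E.symm v)) i = _
        rw [hcomm, LinearEquiv.apply_symm_apply]
        exact hv i⟩
  show Module.finrank F (LinearMap.range (Matrix.blockDiagonal' A).mulVecLin) = _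
  rw [Φ.finrank_eq, Module.finrank_pi_fintype]
  rfl

/-- the multiset of block sizes -/
def partsOf {t : ℕ} (d : Fin t → ℕ) : Multiset ℕ := Finset.univ.val.map d

theorem sum_partsOf {t : ℕ} (d : Fin t → ℕ) : (partsOf d).sum = ∑ k, d k := rfl

theorem count_partsOf {t : ℕ} (d : Fin t → ℕ) (j : ℕ) :
    (partsOf d).count j = (Finset.univ.filter (fun k : Fin t => d k = j)).card := by
  rw [partsOf, Multiset.count_map, Finset.card_def, Finset.filter_val]
  simp only [eq_comm]

theorem pos_of_mem_partsOf {t : ℕ} {d : Fin t → ℕ} (hd : ∀ k, 1 ≤ d k) :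
    ∀ e ∈ partsOf d, 0 < e := by
  intro e he
  obtain ⟨k, -, rfl⟩ := Multiset.mem_map.1 he
  exact hd k

theorem jordanTypeMatrix_sub_one_pow {t : ℕ} (d : Fin t → ℕ) (j : ℕ) :
    (Cfsg.jordanTypeMatrix d F - 1) ^ j =
      Matrix.blockDiagonal' fun k => (Cfsg.jordanBlock (d k) F - 1) ^ j := by
  unfold Cfsg.jordanTypeMatrix
  rw [← Matrix.blockDiagonal'_one, ← Matrix.blockDiagonal'_sub, ← Matrix.blockDiagonal'_pow]
  rfl

theorem rank_jordanTypeMatrix_sub_one_pow {t : ℕ} (d : Fin t → ℕ) (j : ℕ) :
    ((Cfsg.jordanTypeMatrix d F - 1) ^ j).rank = tailRank (partsOf d) j := by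
  rw [jordanTypeMatrix_sub_one_pow, rank_blockDiagonal']
  simp only [rank_jordanBlock_sub_one_pow]
  rw [tailRank, partsOf, Multiset.map_map]
  rfl

theorem tailRank_inj {μ ν : Multiset ℕ} (hμ : ∀ e ∈ μ, 0 < e) (hν : ∀ e ∈ ν, 0 < e)
    (h : ∀ j, tailRank μ j = tailRank ν j) : μ = ν := by
  ext e
  rcases e with _ | e
  · rw [Multiset.count_eq_zero.2 fun h0 => (hμ 0 h0).false,
      Multiset.count_eq_zero.2 fun h0 => (hν 0 h0).false]
  · have h1 := tailRank_second_diff μ e
    have h2 := tailRank_second_diff ν e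
    rw [h, h, h] at h1
    omega

variable {n : Type*} [Fintype n] [DecidableEq n]

theorem rank_sub_one_pow_of_isConj {A B : Matrix n n F} (h : IsConj A B) (j : ℕ) :
    ((A - 1) ^ j).rank = ((B - 1) ^ j).rank := by
  obtain ⟨c, hc⟩ := h
  have hc1 : SemiconjBy (c : Matrix n n F) (A - 1) (B - 1) := hc.sub_right (SemiconjBy.one_right _)
  have h2 : (c : Matrix n n F) * (A - 1) ^ j = (B - 1) ^ j * c := hc1.pow_right j
  have hu : IsUnit (c : Matrix n n F).det := (Matrix.isUnit_iff_isUnit_det _).1 c.isUnit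
  rw [← Matrix.rank_mul_eq_right_of_isUnit_det _ ((A - 1) ^ j) hu, h2,
    Matrix.rank_mul_eq_left_of_isUnit_det _ _ hu]

/-- Unipotent matrices with the same rank sequence are conjugate. -/
theorem isConj_of_unipotent {A B : Matrix n n F} (hA : IsNilpotent (A - 1))
    (hB : IsNilpotent (B - 1)) (h : ∀ j, ((A - 1) ^ j).rank = ((B - 1) ^ j).rank) : IsConj A B := by
  refine isConj_of_rank A B fun r hr hrm k => ?_
  by_cases hrX : r = X - C 1
  · subst hrX
    simp only [map_pow, map_sub, aeval_X, aeval_C, map_one]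
    exact h k
  · have key : ∀ M : Matrix n n F, IsNilpotent (M - 1) → IsUnit (aeval M (r ^ k)).det := by
      rintro M ⟨N, hN⟩
      have hcp : IsCoprime r (X - C 1) := (hr.coprime_iff_not_dvd).2 fun hd =>
        hrX (eq_of_monic_of_associated hrm (monic_X_sub_C _)
          (hr.associated_of_dvd (irreducible_X_sub_C _) hd))
      obtain ⟨a, b, hab⟩ := hcp.pow (m := k) (n := N)
      have h1 := congrArg (aeval M) hab
      rw [map_add, map_mul, map_mul, map_pow (aeval M) (X - C 1), map_sub, aeval_X, aeval_C, map_one,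
        hN, mul_zero, add_zero, map_one] at h1
      refine (Matrix.isUnit_iff_isUnit_det _).1 ?_
      exact ⟨⟨_, _, mul_eq_one_comm.1 h1, h1⟩, rfl⟩
    rw [Matrix.rank_of_isUnit _ ((Matrix.isUnit_iff_isUnit_det _).2 (key A hA)),
      Matrix.rank_of_isUnit _ ((Matrix.isUnit_iff_isUnit_det _).2 (key B hB))]

/-- A matrix is conjugate to a Jordan type matrix iff it is unipotent with that rank sequence. -/
theorem isConj_reindex_jordan_iff {t : ℕ} (d : Fin t → ℕ) (e : ((k : Fin t) × Fin (d k)) ≃ n)
    (A : Matrix n n F) :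
    IsConj (Matrix.reindex e e (Cfsg.jordanTypeMatrix d F)) A ↔
      IsNilpotent (A - 1) ∧ ∀ j, ((A - 1) ^ j).rank = tailRank (partsOf d) j := by
  set J := Matrix.reindex e e (Cfsg.jordanTypeMatrix d F) with hJ
  let R := Matrix.reindexAlgEquiv F F e
  have hJR : ∀ j : ℕ, (J - 1) ^ j = R ((Cfsg.jordanTypeMatrix d F - 1) ^ j) := by
    intro j
    rw [map_pow, map_sub, map_one]
    rfl
  have hrank : ∀ j, ((J - 1) ^ j).rank = tailRank (partsOf d) j := by
    intro j
    rw [hJR, ← rank_jordanTypeMatrix_sub_one_pow (F := F)]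
    exact Matrix.rank_reindex e e _
  have hnilJ : IsNilpotent (J - 1) := by
    refine ⟨Finset.univ.sup d, ?_⟩
    rw [hJR, jordanTypeMatrix_sub_one_pow]
    have h0 : ∀ k, (Cfsg.jordanBlock (d k) F - 1) ^ Finset.univ.sup d = 0 := by
      intro k
      refine pow_eq_zero_of_le (Finset.le_sup (Finset.mem_univ k)) ?_
      apply (Matrix.toLinAlgEquiv' (R := F) (n := Fin (d k))).injective
      rw [map_pow, map_zero]
      exact (jordanBlock_nilpotent_regular (d k)).1
    simp only [h0]
    rw [show (fun k => (0 : Matrix (Fin (d k)) (Fin (d k)) F)) = 0 from rfl,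
      Matrix.blockDiagonal'_zero, map_zero]
  constructor
  · intro h
    refine ⟨?_, fun j => (rank_sub_one_pow_of_isConj h j).symm.trans (hrank j)⟩
    obtain ⟨c, hc⟩ := h
    obtain ⟨N, hN⟩ := hnilJ
    refine ⟨N, ?_⟩
    have h2 : SemiconjBy (c : Matrix n n F) ((J - 1) ^ N) ((A - 1) ^ N) :=
      (hc.sub_right (SemiconjBy.one_right _)).pow_right N
    rw [hN, SemiconjBy, mul_zero] at h2
    exact (Units.mul_left_eq_zero c).1 h2.symm
  · rintro ⟨hA, hr⟩
    exact isConj_of_unipotent hnilJ hA fun j => (hrank j).trans (hr j).symm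

theorem exists_jordan_equiv {t m : ℕ} (d : Fin t → ℕ) (hsum : ∑ k, d k = m)
    {n : Type*} [Fintype n] (hn : Fintype.card n = m) :
    Nonempty (((k : Fin t) × Fin (d k)) ≃ n) :=
  ⟨Fintype.equivOfCardEq (by simp [Fintype.card_sigma, hsum, hn])⟩

end Cfsg.Agent.Lib.Similarity
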