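import Mathlib
import Cfsg.Agent.Lib.Similarity.Jordan
import Cfsg.Agent.Lib.OrthUnipotent.Realise
import Cfsg.Agent.Lib.Classical.AlternatingRank

/-!
Unipotent Jordan types occurring in symplectic groups.
-/

set_option autoImplicit false

namespace Cfsg.Agent.Lib.Similarity

open Cfsg.Agent.Lib.OrthUnipotent
open scoped Matrix

variable {F : Type*} [Field F]

/-- For a unipotent isometry of a non-degenerate alternating form the ranks of the even powers of
`g - 1` are even. -/
theorem even_finrank_range_even_pow {V : Type*} [AddCommGroup V] [Module F V] [FiniteDimensional F V]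
    (B : V →ₗ[F] V →ₗ[F] F) (halt : ∀ v, B v v = 0) (hnd : ∀ v, (∀ w, B w v = 0) → v = 0)
    (g g' : Module.End F V) (hgg : g * g' = 1) (hg : ∀ u v, B (g u) (g v) = B u v) (k : ℕ) :
    Even (Module.finrank F (LinearMap.range ((g - 1) ^ (2 * k)))) := by
  have hg'g : g' * g = 1 := mul_eq_one_comm.1 hgg
  have hc : Commute g g' := hgg.trans hg'g.symm
  set N := g - 1 with hN
  let M : Module.End F V := -(g' * N)
  have hNM : Commute N M :=
    (((hc.sub_left (Commute.one_left g')).mul_right (Commute.refl N))).neg_right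
  have hadj : ∀ u v, B (N u) v = B u (M v) := by
    intro u v
    have h1 : B (g u) v = B u (g' v) := by
      conv_lhs => rw [show v = g (g' v) from (LinearMap.congr_fun hgg v).symm]
      rw [hg]
    have h2 : g' (g v) = v := LinearMap.congr_fun hg'g v
    simp only [hN, M, LinearMap.sub_apply, Module.End.one_apply, map_sub, LinearMap.neg_apply,
      Module.End.mul_apply, h2, neg_sub, h1]
  have hadjk : ∀ (j : ℕ) u v, B ((N ^ j) u) v = B u ((M ^ j) v) := by
    intro j
    induction j with
    | zero => simp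
    | succ j ih =>
        intro u v
        rw [pow_succ, Module.End.mul_apply, ih, hadj, pow_succ', Module.End.mul_apply]
  let β : V →ₗ[F] V →ₗ[F] F := B.compl₁₂ (N ^ k) (N ^ k)
  have hβ := Cfsg.Agent.Lib.AlternatingRank.even_finrank_range_of_alt _ (V := V) rfl β
    (fun v => halt _)
  have hker : LinearMap.ker β = LinearMap.ker (N ^ (2 * k)) := by
    ext u
    simp only [LinearMap.mem_ker]
    -- `M ^ k * N ^ k` and `N ^ (2 * k)` have the same kernel
    have hMk : (M ^ k) ((N ^ k) u) = ((-1 : Module.End F V) ^ k * g' ^ k) ((N ^ (2 * k)) u) := by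
      rw [← Module.End.mul_apply, ← Module.End.mul_apply]
      congr 1
      have : Commute g' N := (hc.symm.sub_right (Commute.one_right g'))
      simp only [M]
      rw [neg_pow, this.mul_pow, two_mul, pow_add, mul_assoc, mul_assoc, mul_assoc]
    constructor
    · intro hu
      have h0 : (M ^ k) ((N ^ k) u) = 0 := by
        refine hnd _ fun w => ?_
        rw [← hadjk]
        have h := LinearMap.congr_fun hu w
        have hskew : ∀ a b, B a b = -B b a := by
          intro a b
          have h := halt (a + b)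
          simp only [map_add, LinearMap.add_apply, halt, zero_add, add_zero] at h
          linear_combination h
        rw [hskew]
        simp only [β, LinearMap.compl₁₂_apply, LinearMap.zero_apply] at h
        rw [h, neg_zero]
      rw [hMk] at h0
      have hinj : Function.Injective ((-1 : Module.End F V) ^ k * g' ^ k) := by
        have hu1 : IsUnit ((-1 : Module.End F V) ^ k * g' ^ k) :=
          ((isUnit_one.neg).pow k).mul (IsUnit.pow k (⟨⟨g', g, hg'g, hgg⟩, rfl⟩ : IsUnit g'))
        exact ((Module.End.isUnit_iff _).1 hu1).injective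
      exact hinj (h0.trans (map_zero _).symm)
    · intro hu
      refine LinearMap.ext fun w => ?_
      have hskew : ∀ a b, B a b = -B b a := by
        intro a b
        have h := halt (a + b)
        simp only [map_add, LinearMap.add_apply, halt, zero_add, add_zero] at h
        linear_combination h
      show B ((N ^ k) u) ((N ^ k) w) = 0
      rw [hskew, hadjk, hMk, hu, map_zero, map_zero, neg_zero]
  have e1 := β.finrank_range_add_finrank_ker
  have e2 := (N ^ (2 * k)).finrank_range_add_finrank_ker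
  rw [hker] at e1
  rwa [show Module.finrank F (LinearMap.range (N ^ (2 * k))) =
    Module.finrank F (LinearMap.range β) by omega]

theorem even_count_odd_of_even_ranks {μ : Multiset ℕ} (h : ∀ k, Even (tailRank μ (2 * k))) (j : ℕ)
    (hj : Odd j) : Even (μ.count j) := by
  obtain ⟨k, rfl⟩ := hj
  have h1 := tailRank_second_diff μ (2 * k)
  have h2 := (h k).add (h (k + 1))
  rw [show 2 * (k + 1) = 2 * k + 2 by ring, h1, Nat.even_add] at h2
  exact h2.1 (even_two_mul _)

section Realise

/-- `μ` is the rank type of a unipotent element of the symplectic group on `l ⊕ l`. -/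
def IsSympType (F : Type*) [Field F] (l : Type*) [Fintype l] [DecidableEq l] (μ : Multiset ℕ) : Prop :=
  ∃ A : Matrix (l ⊕ l) (l ⊕ l) F, A ∈ Matrix.symplecticGroup l F ∧ IsNilpotent (A - 1) ∧
    ∀ j, ((A - 1) ^ j).rank = tailRank μ j

theorem IsSympType.transport {l l' : Type*} [Fintype l] [DecidableEq l] [Fintype l'] [DecidableEq l']
    {μ : Multiset ℕ} (h : IsSympType F l μ) (e : l ≃ l') : IsSympType F l' μ := by
  obtain ⟨A, hA, ⟨N, hN⟩, hr⟩ := h
  let R := Matrix.reindexAlgEquiv F F (e.sumCongr e)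
  have hJ : R (Matrix.J l F) = Matrix.J l' F := by
    ext (i | i) (j | j) <;>
      simp [R, Matrix.J, Matrix.one_apply, e.symm.injective.eq_iff]
  have hT : R Aᵀ = (R A)ᵀ := rfl
  refine ⟨R A, ?_, ⟨N, by rw [← map_one R, ← map_sub, ← map_pow, hN, map_zero]⟩, fun j => ?_⟩
  · rw [SymplecticGroup.mem_iff, ← hT, ← hJ, ← map_mul, ← map_mul, SymplecticGroup.mem_iff.1 hA]
  · rw [← map_one R, ← map_sub, ← map_pow, ← hr j]
    exact Matrix.rank_reindex (e.sumCongr e) (e.sumCongr e) _

theorem rank_fromBlocks_diag {l l' : Type*} [Fintype l] [DecidableEq l] [Fintype l'] [DecidableEq l']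
    (A : Matrix l l F) (D : Matrix l' l' F) :
    (Matrix.fromBlocks A 0 0 D).rank = A.rank + D.rank := by
  let E := LinearEquiv.sumArrowLequivProdArrow l l' F F
  have hcomm : ∀ v, E ((Matrix.fromBlocks A 0 0 D).mulVec v) = (A.mulVec (E v).1, D.mulVec (E v).2) := by
    intro v
    ext i <;> simp [E, Matrix.fromBlocks_mulVec, Function.comp_def] <;> rfl
  have h : (LinearMap.range (Matrix.fromBlocks A 0 0 D).mulVecLin).map E.toLinearMap =
      (LinearMap.range A.mulVecLin).prod (LinearMap.range D.mulVecLin) := by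
    ext ⟨a, b⟩
    rw [Submodule.mem_map, Submodule.mem_prod]
    constructor
    · rintro ⟨_, ⟨v, rfl⟩, hv⟩
      rw [LinearEquiv.coe_coe, Matrix.mulVecLin_apply, hcomm] at hv
      exact ⟨⟨_, congrArg Prod.fst hv⟩, ⟨_, congrArg Prod.snd hv⟩⟩
    · rintro ⟨⟨x, hx⟩, ⟨y, hy⟩⟩
      refine ⟨_, ⟨E.symm (x, y), rfl⟩, ?_⟩
      rw [LinearEquiv.coe_coe, Matrix.mulVecLin_apply, hcomm, LinearEquiv.apply_symm_apply]
      exact Prod.ext hx hy
  show Module.finrank F (LinearMap.range (Matrix.fromBlocks A 0 0 D).mulVecLin) = _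
  rw [← LinearEquiv.finrank_map_eq E, h,
    Cfsg.Agent.Lib.OrthUnipotent.finrank_prod_submodule]
  rfl

theorem IsSympType.glue {l l' : Type*} [Fintype l] [DecidableEq l] [Fintype l'] [DecidableEq l']
    {μ ν : Multiset ℕ} (h : IsSympType F l μ) (h' : IsSympType F l' ν) :
    IsSympType F (l ⊕ l') (μ + ν) := by
  obtain ⟨A, hA, ⟨N, hN⟩, hr⟩ := h
  obtain ⟨B, hB, ⟨N', hN'⟩, hr'⟩ := h'
  let R := Matrix.reindexAlgEquiv F F (Equiv.sumSumSumComm l l l' l')
  have hJ : R (Matrix.fromBlocks (Matrix.J l F) 0 0 (Matrix.J l' F)) = Matrix.J (l ⊕ l') F := by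
    ext ((i | i) | (i | i)) ((j | j) | (j | j)) <;>
      simp [R, Matrix.J, Matrix.one_apply, Equiv.sumSumSumComm]
  have hpow : ∀ j, (R (Matrix.fromBlocks A 0 0 B) - 1) ^ j =
      R (Matrix.fromBlocks ((A - 1) ^ j) 0 0 ((B - 1) ^ j)) := by
    intro j
    have hsub : Matrix.fromBlocks (A - 1) 0 0 (B - 1) = Matrix.fromBlocks A 0 0 B - 1 := by
      ext (i | i) (j' | j') <;> simp [Matrix.one_apply]
    rw [← map_one R, ← map_sub, ← map_pow, ← Matrix.fromBlocks_diagonal_pow, hsub]
  refine ⟨R (Matrix.fromBlocks A 0 0 B), ?_, ⟨N + N', ?_⟩, fun j => ?_⟩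
  · rw [SymplecticGroup.mem_iff, show (R (Matrix.fromBlocks A 0 0 B))ᵀ =
      R (Matrix.fromBlocks A 0 0 B)ᵀ from rfl, ← hJ, ← map_mul, ← map_mul, Matrix.fromBlocks_transpose,
      Matrix.fromBlocks_multiply, Matrix.fromBlocks_multiply]
    simp [SymplecticGroup.mem_iff.1 hA, SymplecticGroup.mem_iff.1 hB]
  · rw [hpow, pow_eq_zero_of_le (Nat.le_add_right N N') hN,
      pow_eq_zero_of_le (Nat.le_add_left N' N) hN', Matrix.fromBlocks_zero, map_zero]
  · rw [hpow, tailRank_add, ← hr, ← hr', ← rank_fromBlocks_diag]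
    exact Matrix.rank_reindex _ _ _

theorem isSympType_pair (F : Type*) [Field F] (e : ℕ) :
    IsSympType F (Fin e) (e ::ₘ e ::ₘ 0) := by
  let J := Cfsg.jordanBlock e F
  obtain ⟨N, hN⟩ : IsNilpotent (J - 1) := ⟨e, by
    apply (Matrix.toLinAlgEquiv' (R := F) (n := Fin e)).injective
    rw [map_pow, map_zero]
    exact (jordanBlock_nilpotent_regular e).1⟩
  have hJu : IsUnit J := by
    have := IsNilpotent.isUnit_one_add ⟨N, hN⟩
    rwa [add_sub_cancel] at this
  obtain ⟨J, hJ'⟩ := hJu
  let D : Matrix (Fin e) (Fin e) F := ((J⁻¹ : (Matrix (Fin e) (Fin e) F)ˣ) : Matrix _ _ F)ᵀ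
  have hD1 : (J : Matrix (Fin e) (Fin e) F) * Dᵀ = 1 := by
    simp only [D, Matrix.transpose_transpose, Units.mul_inv]
  have hD2 : D * (J : Matrix (Fin e) (Fin e) F)ᵀ = 1 := by
    simp only [D, ← Matrix.transpose_mul, Units.mul_inv, Matrix.transpose_one]
  have hpow : ∀ j : ℕ, (D - 1) ^ j =
      (((J⁻¹ : (Matrix (Fin e) (Fin e) F)ˣ) : Matrix _ _ F) ^ j *
        (-((J : Matrix (Fin e) (Fin e) F) - 1)) ^ j)ᵀ := by
    intro j
    have h1 : ((J⁻¹ : (Matrix (Fin e) (Fin e) F)ˣ) : Matrix _ _ F) - 1 =
        ((J⁻¹ : (Matrix (Fin e) (Fin e) F)ˣ) : Matrix _ _ F) *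
          (-((J : Matrix (Fin e) (Fin e) F) - 1)) := by
      rw [neg_sub, mul_sub, mul_one, Units.inv_mul]
    have hcm : Commute ((J⁻¹ : (Matrix (Fin e) (Fin e) F)ˣ) : Matrix _ _ F)
        (-((J : Matrix (Fin e) (Fin e) F) - 1)) := by
      refine (Commute.sub_right ?_ (Commute.one_right _)).neg_right
      show _ * _ = _ * _
      rw [Units.inv_mul, Units.mul_inv]
    rw [show D - 1 = (((J⁻¹ : (Matrix (Fin e) (Fin e) F)ˣ) : Matrix _ _ F) - 1)ᵀ by
      rw [Matrix.transpose_sub, Matrix.transpose_one], ← Matrix.transpose_pow, h1, hcm.mul_pow]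
  have hN' : ((J : Matrix (Fin e) (Fin e) F) - 1) ^ N = 0 := by rw [hJ']; exact hN
  have hsub : ∀ j : ℕ, (Matrix.fromBlocks (J : Matrix (Fin e) (Fin e) F) 0 0 D - 1) ^ j =
      Matrix.fromBlocks (((J : Matrix (Fin e) (Fin e) F) - 1) ^ j) 0 0 ((D - 1) ^ j) := by
    intro j
    rw [← Matrix.fromBlocks_diagonal_pow]
    congr 1
    ext (i | i) (j' | j') <;> simp [Matrix.one_apply]
  refine ⟨Matrix.fromBlocks (J : Matrix (Fin e) (Fin e) F) 0 0 D, ?_, ⟨N, ?_⟩, fun j => ?_⟩
  · rw [SymplecticGroup.mem_iff, Matrix.J, Matrix.fromBlocks_transpose, Matrix.fromBlocks_multiply,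
      Matrix.fromBlocks_multiply]
    simp [hD1, hD2]
  · rw [hsub, hpow, hN', neg_pow ((J : Matrix (Fin e) (Fin e) F) - 1) N, hN', mul_zero, mul_zero,
      Matrix.transpose_zero, Matrix.fromBlocks_zero]
  · rw [hsub, rank_fromBlocks_diag, hpow, Matrix.rank_transpose,
      Matrix.rank_mul_eq_right_of_isUnit_det _ _
        ((Matrix.isUnit_iff_isUnit_det _).1 ((J⁻¹).isUnit.pow j)),
      neg_pow ((J : Matrix (Fin e) (Fin e) F) - 1) j,
      Matrix.rank_mul_eq_right_of_isUnit_det _ _
        ((Matrix.isUnit_iff_isUnit_det _).1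
          ((show IsUnit (-1 : Matrix (Fin e) (Fin e) F) from isUnit_one.neg).pow j)),
      hJ', rank_jordanBlock_sub_one_pow]
    simp [tailRank]

theorem isSympType_single (F : Type*) [Field F] (k : ℕ) :
    IsSympType F (Fin (k + 1)) ((2 * (k + 1)) ::ₘ 0) := by
  classical
  let J := Cfsg.jordanBlock (k + 1) F
  obtain ⟨hreg1, hreg2⟩ := jordanBlock_nilpotent_regular (F := F) (k + 1)
  have hnilJ : (J - 1) ^ (k + 1) = 0 := by
    apply (Matrix.toLinAlgEquiv' (R := F) (n := Fin (k + 1))).injective
    rw [map_pow, map_zero]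
    exact hreg1
  have hJu : IsUnit J := by
    have := IsNilpotent.isUnit_one_add ⟨k + 1, hnilJ⟩
    rwa [add_sub_cancel] at this
  have hJd : IsUnit J.det := (Matrix.isUnit_iff_isUnit_det _).1 hJu
  let D : Matrix (Fin (k + 1)) (Fin (k + 1)) F := (J⁻¹)ᵀ
  let S : Matrix (Fin (k + 1)) (Fin (k + 1)) F := Matrix.single 0 0 (1 : F)
  let X := Matrix.fromBlocks J (0 : Matrix (Fin (k + 1)) (Fin (k + 1)) F)
    (0 : Matrix (Fin (k + 1)) (Fin (k + 1)) F) D
  let T := Matrix.fromBlocks (1 : Matrix (Fin (k + 1)) (Fin (k + 1)) F) S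
    (0 : Matrix (Fin (k + 1)) (Fin (k + 1)) F) (1 : Matrix (Fin (k + 1)) (Fin (k + 1)) F)
  have hX : X ∈ Matrix.symplecticGroup (Fin (k + 1)) F := by
    rw [SymplecticGroup.mem_iff, Matrix.J]
    simp only [X, D, Matrix.fromBlocks_transpose, Matrix.fromBlocks_multiply, Matrix.transpose_zero,
      Matrix.transpose_transpose]
    simp [Matrix.mul_nonsing_inv _ hJd, ← Matrix.transpose_mul]
  have hT : T ∈ Matrix.symplecticGroup (Fin (k + 1)) F := by
    rw [SymplecticGroup.mem_iff, Matrix.J]
    simp only [T, Matrix.fromBlocks_transpose, Matrix.fromBlocks_multiply, Matrix.transpose_zero,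
      Matrix.transpose_one]
    simp [S]
  have hA : X * T = Matrix.fromBlocks J (J * S) 0 D := by
    simp [X, T, Matrix.fromBlocks_multiply]
  have hnilD : (D - 1) ^ (k + 1) = 0 := by
    rw [show D - 1 = (J⁻¹ - 1)ᵀ by rw [Matrix.transpose_sub, Matrix.transpose_one],
      ← Matrix.transpose_pow]
    have h1 : J⁻¹ - 1 = J⁻¹ * (-(J - 1)) := by
      rw [neg_sub, mul_sub, mul_one, Matrix.nonsing_inv_mul _ hJd]
    have hcm : Commute J⁻¹ (-(J - 1)) := by
      refine (Commute.sub_right ?_ (Commute.one_right _)).neg_right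
      show _ * _ = _ * _
      rw [Matrix.nonsing_inv_mul _ hJd, Matrix.mul_nonsing_inv _ hJd]
    rw [h1, hcm.mul_pow, neg_pow (J - 1), hnilJ, mul_zero, mul_zero, Matrix.transpose_zero]
  set M := X * T - 1 with hM
  have hMblock : M = Matrix.fromBlocks (J - 1) (J * S) 0 (D - 1) := by
    rw [hM, hA, sub_eq_iff_eq_add, ← Matrix.fromBlocks_one, Matrix.fromBlocks_add]
    simp
  have hnil : M ^ (k + 1 + (k + 1)) = 0 := by
    have key : ∀ j, ∃ B, M ^ j = Matrix.fromBlocks ((J - 1) ^ j) B 0 ((D - 1) ^ j) := by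
      intro j
      induction j with
      | zero => exact ⟨0, by simp⟩
      | succ j ih =>
          obtain ⟨B, hB⟩ := ih
          refine ⟨(J - 1) ^ j * (J * S) + B * (D - 1), ?_⟩
          rw [pow_succ, hB, hMblock, Matrix.fromBlocks_multiply]
          simp [pow_succ]
    obtain ⟨B, hB⟩ := key (k + 1)
    rw [pow_add, hB, hnilJ, hnilD, Matrix.fromBlocks_multiply]
    simp
  let N := Matrix.toLinAlgEquiv' M
  have hker : Module.finrank F (LinearMap.ker N) ≤ 1 := by
    have hz : ∀ v ∈ LinearMap.ker N, (∀ i, v (Sum.inr i) = 0) ∧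
        (fun i => v (Sum.inl i)) ∈ LinearMap.ker (Matrix.toLinAlgEquiv' (J - 1)) := by
      intro v hv
      set x := fun i => v (Sum.inl i) with hx
      set y := fun i => v (Sum.inr i) with hy
      have h : M.mulVec v = 0 := LinearMap.mem_ker.1 hv
      rw [hMblock, Matrix.fromBlocks_mulVec] at h
      have h1 : (J - 1).mulVec x + (J * S).mulVec y = 0 := funext fun i => congrFun h (Sum.inl i)
      have h2 : (D - 1).mulVec y = 0 := by
        funext i
        have := congrFun h (Sum.inr i)
        simpa [hy, Function.comp_def] using this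
      -- `y` is a multiple of the first coordinate vector
      have hy0 : (J - 1)ᵀ.mulVec y = 0 := by
        have hh : Jᵀ * (D - 1) = -(J - 1)ᵀ := by
          rw [mul_sub, mul_one, Matrix.transpose_sub, Matrix.transpose_one, neg_sub,
            show Jᵀ * D = 1 by simp only [D]; rw [← Matrix.transpose_mul,
              Matrix.nonsing_inv_mul _ hJd, Matrix.transpose_one]]
        have := congrArg (Jᵀ.mulVec) h2
        rw [Matrix.mulVec_mulVec, hh, Matrix.mulVec_zero, Matrix.neg_mulVec, neg_eq_zero] at this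
        exact this
      have hyi : ∀ i : Fin k, y i.succ = 0 := by
        intro i
        have := congrFun hy0 i.castSucc
        simp only [Matrix.mulVec, dotProduct, Matrix.transpose_apply, J, jordanBlock_sub_one_apply,
          ite_mul, one_mul, zero_mul] at this
        rw [Finset.sum_eq_single i.succ] at this
        · simpa using this
        · intro b _ hb
          refine if_neg fun hh => hb (Fin.ext ?_)
          simpa using hh
        · simp
      have hSy : S.mulVec y = y 0 • Pi.single 0 1 := by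
        ext i
        rcases eq_or_ne i 0 with rfl | hi
        · simp [S, Matrix.mulVec, dotProduct, Matrix.single_apply]
        · simp [S, Matrix.mulVec, dotProduct, Matrix.single_apply, hi, Ne.symm hi]
      have h1' : (J - 1).mulVec x + y 0 • J.mulVec (Pi.single 0 1) = 0 := by
        rwa [← Matrix.mulVec_mulVec, hSy, Matrix.mulVec_smul] at h1
      have hy00 : y 0 = 0 := by
        have h0 := congrFun h1' 0
        have e1 : (J - 1).mulVec x 0 = 0 := by
          simp only [Matrix.mulVec, dotProduct, J, jordanBlock_sub_one_apply, ite_mul, one_mul,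
            zero_mul]
          exact Finset.sum_eq_zero fun b _ => if_neg (by simp)
        rw [Pi.add_apply, Pi.smul_apply, e1, Matrix.mulVec_single_one] at h0
        simpa [J, Cfsg.jordanBlock] using h0
      refine ⟨fun i => Fin.cases hy00 hyi i, ?_⟩
      rw [hy00, zero_smul, add_zero] at h1'
      exact h1'
    refine le_trans (LinearMap.finrank_le_finrank_of_injective
      (f := LinearMap.codRestrict (LinearMap.ker (Matrix.toLinAlgEquiv' (J - 1)))
        (LinearMap.funLeft F F Sum.inl ∘ₗ (LinearMap.ker N).subtype) (fun v => (hz v.1 v.2).2)) ?_) hreg2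
    rw [injective_iff_map_eq_zero]
    intro v hv
    refine Subtype.ext (funext fun i => ?_)
    cases i with
    | inl i => exact congrFun (congrArg Subtype.val hv) i
    | inr i => exact (hz v.1 v.2).1 i
  refine ⟨X * T, mul_mem hX hT, ⟨_, hnil⟩, fun j => ?_⟩
  have h := finrank_range_pow_regular N hker (d := k + 1 + (k + 1)) (by simp)
    (by rw [← map_pow, hnil, map_zero]) j
  rw [← map_pow] at h
  rw [show tailRank ((2 * (k + 1)) ::ₘ 0) j = k + 1 + (k + 1) - j by simp [tailRank, two_mul]]
  exact h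

theorem isSympType_of_even (F : Type*) [Field F] (μ : Multiset ℕ) (hpos : ∀ e ∈ μ, 0 < e)
    (h : ∀ j, Odd j → Even (μ.count j)) :
    ∃ m, μ.sum = 2 * m ∧ IsSympType F (Fin m) μ := by
  induction μ using Multiset.strongInductionOn with
  | _ μ ih =>
    rcases μ.empty_or_exists_mem with rfl | ⟨e, he⟩
    · refine ⟨0, by simp, 1, one_mem _, ⟨1, by simp⟩, fun j => ?_⟩
      have h1 := Matrix.rank_le_card_height (((1 : Matrix (Fin 0 ⊕ Fin 0) (Fin 0 ⊕ Fin 0) F) - 1) ^ j)
      simp at h1
      simp [tailRank, h1]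
    obtain ⟨μ', rfl⟩ := Multiset.exists_cons_of_mem he
    rcases Nat.even_or_odd e with ⟨k, hk⟩ | hod
    · obtain ⟨m, hm, hA⟩ := ih μ' (Multiset.lt_cons_self _ _)
        (fun x hx => hpos x (Multiset.mem_cons_of_mem hx)) (by
          intro j hj
          have := h j hj
          rwa [Multiset.count_cons_of_ne] at this
          rintro rfl
          exact Nat.not_even_iff_odd.2 hj ⟨k, hk⟩)
      have hk0 := hpos e (Multiset.mem_cons_self _ _)
      obtain ⟨i, rfl⟩ : ∃ i, k = i + 1 := ⟨k - 1, by omega⟩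
      refine ⟨i + 1 + m, by rw [Multiset.sum_cons, hm, hk]; ring, ?_⟩
      have := ((isSympType_single F i).glue hA).transport finSumFinEquiv
      rwa [Multiset.cons_add, zero_add, two_mul, ← hk] at this
    · have hc := h e hod
      rw [Multiset.count_cons_self] at hc
      have hmem : e ∈ μ' := by
        rw [← Multiset.count_pos]
        obtain ⟨k, hk⟩ := hc
        omega
      obtain ⟨μ'', rfl⟩ := Multiset.exists_cons_of_mem hmem
      obtain ⟨m, hm, hA⟩ := ih μ''
        (lt_trans (Multiset.lt_cons_self _ _) (Multiset.lt_cons_self _ _))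
        (fun x hx => hpos x (Multiset.mem_cons_of_mem (Multiset.mem_cons_of_mem hx))) (by
          intro j hj
          have h1 := h j hj
          by_cases hje : j = e
          · subst hje
            rw [Multiset.count_cons_self, Multiset.count_cons_self] at h1
            obtain ⟨a, ha⟩ := h1
            exact ⟨a - 1, by omega⟩
          · rwa [Multiset.count_cons_of_ne hje, Multiset.count_cons_of_ne hje] at h1)
      refine ⟨e + m, by rw [Multiset.sum_cons, Multiset.sum_cons, hm]; ring, ?_⟩
      have := ((isSympType_pair F e).glue hA).transport finSumFinEquiv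
      rwa [Multiset.cons_add, Multiset.cons_add, zero_add] at this

end Realise

end Cfsg.Agent.Lib.Similarity
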