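import Mathlib
import Cfsg.Prelude.Def_Classical
import Cfsg.Agent.Lib.Similarity.SympUnipotent
import Cfsg.Agent.Lib.OrthUnipotent.Model

/-!
Necessary conditions on unipotent isometries of bilinear forms, and realisations for quadratic forms.
-/

set_option autoImplicit false

namespace Cfsg.Agent.Lib.Similarity

open Cfsg.Agent.Lib.OrthUnipotent

variable {F : Type*} [Field F]

/-- odd block sizes of a unipotent isometry of an alternating form have even multiplicity -/
theorem even_count_of_alt_isometry {n : Type*} [Fintype n] [DecidableEq n]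
    (B : (n → F) →ₗ[F] (n → F) →ₗ[F] F) (halt : ∀ v, B v v = 0)
    (hnd : ∀ v, (∀ w, B w v = 0) → v = 0) (A : Matrix n n F) (hA : IsNilpotent (A - 1))
    (hpres : ∀ u v, B (A.mulVec u) (A.mulVec v) = B u v) (μ : Multiset ℕ)
    (hr : ∀ j, ((A - 1) ^ j).rank = tailRank μ j) (j : ℕ) (hj : Odd j) : Even (μ.count j) := by
  refine even_count_odd_of_even_ranks (fun k => ?_) j hj
  have hu : IsUnit A := by
    have := hA.isUnit_one_add
    rwa [add_sub_cancel] at this
  obtain ⟨U, hU⟩ := hu
  let T : Matrix n n F ≃ₐ[F] Module.End F (n → F) := Matrix.toLinAlgEquiv'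
  have h := even_finrank_range_even_pow B halt hnd (T A)
    (T ((U⁻¹ : (Matrix n n F)ˣ) : Matrix n n F))
    (by rw [← map_mul, ← hU, Units.mul_inv, map_one]) hpres k
  rw [← map_one T, ← map_sub, ← map_pow] at h
  rw [← hr]
  exact h

/-- even block sizes of a unipotent isometry of a symmetric form have even multiplicity (odd char) -/
theorem even_count_of_symm_isometry {n : Type*} [Fintype n] [DecidableEq n] (h2 : (2 : F) ≠ 0)
    (B : LinearMap.BilinForm F (n → F)) (hsymm : ∀ u v, B u v = B v u)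
    (hnd : ∀ v, (∀ w, B v w = 0) → v = 0) (A : Matrix n n F) (hA : IsNilpotent (A - 1))
    (hpres : ∀ u v, B (A.mulVec u) (A.mulVec v) = B u v) (μ : Multiset ℕ) (hpos : ∀ e ∈ μ, 0 < e)
    (hr : ∀ j, ((A - 1) ^ j).rank = tailRank μ j) (j : ℕ) (hj : Even j) : Even (μ.count j) := by
  classical
  let T : Matrix n n F ≃ₐ[F] Module.End F (n → F) := Matrix.toLinAlgEquiv'
  have hu : IsUnit (A + 1) := by
    have h := hA.isUnit_add_left_of_commute (u := (2 : F) • (1 : Matrix n n F))
      (by
        refine ⟨⟨(2 : F) • 1, (2 : F)⁻¹ • 1, ?_, ?_⟩, rfl⟩ <;>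
          rw [smul_mul_smul_comm, one_mul] <;> simp [h2])
      ((Commute.one_right _).smul_right _)
    rwa [show (2 : F) • (1 : Matrix n n F) + (A - 1) = A + 1 by rw [two_smul]; abel] at h
  obtain ⟨U, hU⟩ := hu
  let L : Matrix n n F := (A - 1) * ((U⁻¹ : (Matrix n n F)ˣ) : Matrix n n F)
  have hc : Commute (A - 1) ((U⁻¹ : (Matrix n n F)ˣ) : Matrix n n F) := by
    refine Commute.units_inv_right ?_
    rw [hU]
    exact ((Commute.refl A).add_right (Commute.one_right A)).sub_left (Commute.one_left _)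
  have hskew : ∀ u v, B (T L u) v + B u (T L v) = 0 := by
    intro u v
    have hsur : ∀ w, ∃ x, w = (A + 1).mulVec x := fun w =>
      ⟨((U⁻¹ : (Matrix n n F)ˣ) : Matrix n n F).mulVec w, by
        rw [Matrix.mulVec_mulVec, ← hU, Units.mul_inv, Matrix.one_mulVec]⟩
    obtain ⟨x, rfl⟩ := hsur u
    obtain ⟨y, rfl⟩ := hsur v
    have hLx : ∀ x, T L ((A + 1).mulVec x) = (A - 1).mulVec x := by
      intro x
      show L.mulVec ((A + 1).mulVec x) = _
      rw [Matrix.mulVec_mulVec]
      simp only [L, ← hU, mul_assoc, Units.inv_mul, mul_one]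
    rw [hLx, hLx, Matrix.sub_mulVec, Matrix.sub_mulVec, Matrix.add_mulVec, Matrix.add_mulVec,
      Matrix.one_mulVec, Matrix.one_mulVec]
    simp only [map_add, map_sub, LinearMap.add_apply, LinearMap.sub_apply, hpres]
    ring
  have hrange : ∀ j, Module.finrank F (LinearMap.range ((T L) ^ j)) = tailRank μ j := by
    intro j
    rw [← map_pow, ← hr]
    show Matrix.rank (L ^ j) = _
    rw [hc.mul_pow, Matrix.rank_mul_eq_left_of_isUnit_det _ _
      ((Matrix.isUnit_iff_isUnit_det _).1 ((U⁻¹).isUnit.pow j))]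
  obtain ⟨ν, hνμ, hνsum, hνeven, -, -⟩ := exists_subPartition B hsymm h2 (T L) hskew μ hrange ⊤
    le_top (fun w _ h => hnd w fun x => h x Submodule.mem_top)
  have hsum : μ.sum = Fintype.card n := by
    rw [← tailRank_zero_right, ← hr, pow_zero, Matrix.rank_one]
  have hνeq : ν = μ := by
    rw [finrank_top, Module.finrank_fintype_fun_eq_card] at hνsum
    obtain ⟨ρ, hρ⟩ := le_iff_exists_add.1 hνμ
    rcases ρ.empty_or_exists_mem with hρ0 | ⟨e, he⟩
    · rw [hρ, hρ0, add_zero]
    · exfalso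
      have h1 : 0 < e := hpos e (hρ ▸ Multiset.mem_add.2 (Or.inr he))
      have h2' : e ≤ ρ.sum := Multiset.single_le_sum (fun x _ => Nat.zero_le x) e he
      rw [hρ, Multiset.sum_add] at hsum
      omega
  exact hνeq ▸ hνeven j hj

theorem stdForm_nondeg {M s : ℕ} (α : Fin s → F) (hα : ∀ i, 2 * α i ≠ 0) (u : StdSpace F M s)
    (h : ∀ v, stdForm M α u v = 0) : u = 0 := by
  refine Prod.ext (funext fun i => ?_) (Prod.ext (funext fun i => ?_) (funext fun i => ?_))
  · have := h (0, Pi.single i 1, 0)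
    simpa [stdForm_apply, Pi.single_apply] using this
  · have := h (Pi.single i 1, 0, 0)
    simpa [stdForm_apply, Pi.single_apply] using this
  · have h1 := h (0, 0, Pi.single i 1)
    simp [stdForm_apply, Pi.single_apply] at h1
    rcases h1 with h1 | h1
    · exact absurd (by rw [mul_eq_zero]; exact h1) (hα i)
    · exact h1

/-- Unipotent isometries with prescribed even-part-paired Jordan type, odd characteristic. -/
theorem exists_orth_realisation (h2 : (2 : F) ≠ 0) (μ : Multiset ℕ) (hpos : ∀ e ∈ μ, 0 < e)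
    (heven : ∀ e : ℕ, Even e → Even (μ.count e)) {n : ℕ} (hn : μ.sum = n) :
    ∃ Q : QuadraticForm F (Fin n → F), (QuadraticMap.polarBilin Q).Nondegenerate ∧
      ∃ A : GL (Fin n) F, A ∈ Cfsg.isometryGroup F ⇑Q ∧
        IsNilpotent ((A : Matrix (Fin n) (Fin n) F) - 1) ∧
        ∀ j, (((A : Matrix (Fin n) (Fin n) F) - 1) ^ j).rank = tailRank μ j := by
  classical
  obtain ⟨M, s, hsum, -, hreal⟩ := exists_realisation h2 μ hpos heven
  have hdim : Module.finrank F (StdSpace F M s) = Module.finrank F (Fin n → F) := by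
    simp [Module.finrank_prod]
    omega
  let e : StdSpace F M s ≃ₗ[F] (Fin n → F) := LinearEquiv.ofFinrankEq _ _ hdim
  let B₀ : LinearMap.BilinForm F (StdSpace F M s) := stdForm M (fun _ => 1)
  let B : LinearMap.BilinForm F (Fin n → F) := B₀.compl₁₂ e.symm.toLinearMap e.symm.toLinearMap
  obtain ⟨L, S, hL, -, -, -, hr⟩ :=
    (hreal (fun _ => 1) (fun _ => one_ne_zero)).transport (B' := B) e (fun u v => by simp [B, B₀])
  have hsymm : ∀ u v, B u v = B v u := fun u v => stdForm_symm _ _ _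
  let Q : QuadraticForm F (Fin n → F) := ((2 : F)⁻¹ • B).toQuadraticMap
  have hQ : ∀ u v, QuadraticMap.polar ⇑Q u v = B u v := by
    intro u v
    show QuadraticMap.polar ⇑(LinearMap.BilinMap.toQuadraticMap ((2 : F)⁻¹ • B)) u v = _
    rw [LinearMap.BilinMap.polar_toQuadraticMap]
    simp only [LinearMap.smul_apply, smul_eq_mul]
    rw [hsymm v u]
    field_simp
    ring
  have hsep : ∀ u, (∀ v, B u v = 0) → u = 0 := by
    intro u hu
    have h0 := stdForm_nondeg (fun _ => (1 : F)) (by simpa using fun _ : Fin s => h2) (e.symm u)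
      fun v => by
        have := hu (e v)
        simpa [B, B₀] using this
    simpa using congrArg e h0
  refine ⟨Q, ⟨fun u hu => ?_, fun u hu => ?_⟩, ?_⟩
  · exact hsep u fun v => by rw [← hQ]; exact hu v
  · exact hsep u fun v => by rw [← hQ, QuadraticMap.polar_comm]; exact hu v
  let T : Matrix (Fin n) (Fin n) F ≃ₐ[F] Module.End F (Fin n → F) := Matrix.toLinAlgEquiv'
  set N : Matrix (Fin n) (Fin n) F := T.symm L with hNdef
  have hTN : T N = L := T.apply_symm_apply L
  have hnil : IsNilpotent N := by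
    refine ⟨μ.sum, T.injective ?_⟩
    rw [map_pow, hTN, map_zero]
    have h0 := hr μ.sum
    rw [tailRank_eq_zero μ μ.sum fun x hx => Multiset.single_le_sum (fun y _ => Nat.zero_le y) x hx,
      Submodule.finrank_eq_zero, LinearMap.range_eq_bot] at h0
    exact h0
  obtain ⟨P, hP⟩ := hnil.isUnit_one_sub
  obtain ⟨P', hP'⟩ := hnil.isUnit_one_add
  let A : GL (Fin n) F := P' * P⁻¹
  have hcN : Commute N ((P⁻¹ : GL (Fin n) F) : Matrix (Fin n) (Fin n) F) := by
    refine Commute.units_inv_right ?_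
    rw [hP]
    exact (Commute.one_right _).sub_right (Commute.refl _)
  have hA1 : (A : Matrix (Fin n) (Fin n) F) - 1 =
      ((2 : F) • N) * ((P⁻¹ : GL (Fin n) F) : Matrix (Fin n) (Fin n) F) := by
    have h3 : (2 : F) • N = (P' : Matrix (Fin n) (Fin n) F) - (P : Matrix (Fin n) (Fin n) F) := by
      rw [hP, hP', two_smul]; abel
    rw [h3, sub_mul, Units.mul_inv]
    rfl
  have hc2 : Commute ((2 : F) • N) ((P⁻¹ : GL (Fin n) F) : Matrix (Fin n) (Fin n) F) :=
    hcN.smul_left _
  refine ⟨A, ?_, ?_, ?_⟩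
  · intro u _
    show Q ((A : Matrix (Fin n) (Fin n) F).mulVec u) = Q u
    obtain ⟨x, rfl⟩ : ∃ x, u = (P : Matrix (Fin n) (Fin n) F).mulVec x :=
      ⟨((P⁻¹ : GL (Fin n) F) : Matrix (Fin n) (Fin n) F).mulVec u, by
        rw [Matrix.mulVec_mulVec, Units.mul_inv, Matrix.one_mulVec]⟩
    rw [Matrix.mulVec_mulVec, ← Units.val_mul, inv_mul_cancel_right, hP, hP']
    have hN : N.mulVec x = L x := LinearMap.congr_fun hTN x
    rw [Matrix.add_mulVec, Matrix.sub_mulVec, Matrix.one_mulVec, hN]
    show (LinearMap.BilinMap.toQuadraticMap ((2 : F)⁻¹ • B)) _ = (LinearMap.BilinMap.toQuadraticMap ((2 : F)⁻¹ • B)) _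
    have h1 := hL x x
    rw [hsymm x (L x)] at h1
    have h3 : B (L x) x = 0 :=
      (mul_eq_zero.1 (show (2 : F) * B (L x) x = 0 by linear_combination h1)).resolve_left h2
    simp only [LinearMap.BilinMap.toQuadraticMap_apply, LinearMap.smul_apply, map_add, map_sub,
      LinearMap.add_apply, LinearMap.sub_apply, hsymm x (L x), h3, smul_eq_mul]
    ring
  · rw [hA1]
    exact hc2.isNilpotent_mul_right (hnil.smul _)
  · intro j
    rw [hA1, hc2.mul_pow, Matrix.rank_mul_eq_left_of_isUnit_det _ _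
      ((Matrix.isUnit_iff_isUnit_det _).1 ((P⁻¹).isUnit.pow j)), smul_pow, ← hr j]
    have hh : T (N ^ j) = L ^ j := by rw [map_pow, hTN]
    rw [← hh]
    show Matrix.rank ((2 : F) ^ j • N ^ j) = Matrix.rank (N ^ j)
    unfold Matrix.rank
    rw [show ((2 : F) ^ j • N ^ j).mulVecLin = (2 : F) ^ j • (N ^ j).mulVecLin from
      map_smul (Matrix.toLin' (R := F) (m := Fin n) (n := Fin n)) _ _,
      LinearMap.range_smul _ _ (pow_ne_zero _ h2)]

end Cfsg.Agent.Lib.Similarity
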