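import Mathlib
import Cfsg.Prelude.Def_ClassicalGeometry
import Cfsg.Agent.S2585
import Cfsg.Agent.S2582
import Cfsg.Agent.Lib.Similarity.RegularSkew
import Cfsg.Agent.Lib.Similarity.SympUnipotent

/-!
Regular unipotent elements of `Sp_{2m}` in odd characteristic as regular skew nilpotents.
-/

set_option autoImplicit false

namespace Cfsg.Agent.Lib.Similarity

open scoped Matrix

variable {F : Type*} [Field F] {m : ℕ}

/-- the symplectic form as a bilinear map -/
noncomputable def sympMap (m : ℕ) (F : Type*) [Field F] :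
    (Fin m ⊕ Fin m → F) →ₗ[F] (Fin m ⊕ Fin m → F) →ₗ[F] F :=
  Matrix.toLinearMap₂' F (Matrix.J (Fin m) F)

theorem sympMap_apply (x y : Fin m ⊕ Fin m → F) : sympMap m F x y = Cfsg.sympForm m F x y :=
  Matrix.toLinearMap₂'_apply' _ _ _

theorem sympMap_alt (x : Fin m ⊕ Fin m → F) : sympMap m F x x = 0 := by
  rw [sympMap_apply, S2585.sympForm_eq_sum]
  simp [mul_comm]

theorem sympMap_nondeg (y : Fin m ⊕ Fin m → F) (h : ∀ x, sympMap m F x y = 0) : y = 0 := by
  obtain ⟨B, hB, -, hnd⟩ := S2582.sympForm_bilin (F := F) (m := m)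
  exact hnd y fun w => by rw [hB, ← sympMap_apply, h]

theorem mem_symplecticGroup_iff (A : Matrix (Fin m ⊕ Fin m) (Fin m ⊕ Fin m) F) :
    A ∈ Matrix.symplecticGroup (Fin m) F ↔
      ∀ x y, sympMap m F (A *ᵥ x) (A *ᵥ y) = sympMap m F x y := by
  constructor
  · intro h x y
    rw [sympMap_apply, sympMap_apply]
    exact S2585.sympForm_preserved ⟨A, h⟩ x y
  · intro h
    rw [SymplecticGroup.mem_iff']
    apply (Matrix.toLinearMap₂' F : Matrix (Fin m ⊕ Fin m) (Fin m ⊕ Fin m) F ≃ₗ[F]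
      (Fin m ⊕ Fin m → F) →ₗ[F] (Fin m ⊕ Fin m → F) →ₗ[F] F).injective
    refine LinearMap.ext fun x => LinearMap.ext fun y => ?_
    rw [Matrix.toLinearMap₂'_apply', Matrix.toLinearMap₂'_apply', ← Matrix.mulVec_mulVec,
      ← Matrix.mulVec_mulVec, Matrix.dotProduct_mulVec, Matrix.vecMul_transpose,
      ← Matrix.toLinearMap₂'_apply', ← Matrix.toLinearMap₂'_apply']
    exact h x y

/-- the Cayley transform of a symplectic matrix -/
noncomputable def cayleyEnd (A : Matrix (Fin m ⊕ Fin m) (Fin m ⊕ Fin m) F) :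
    Module.End F (Fin m ⊕ Fin m → F) :=
  Matrix.toLinAlgEquiv' ((A - 1) * (A + 1)⁻¹)

structure IsRegUnip (A : Matrix (Fin m ⊕ Fin m) (Fin m ⊕ Fin m) F) : Prop where
  mem : A ∈ Matrix.symplecticGroup (Fin m) F
  nil : (A - 1) ^ (2 * m) = 0
  reg : (A - 1).rank = 2 * m - 1

variable {A : Matrix (Fin m ⊕ Fin m) (Fin m ⊕ Fin m) F}

theorem IsRegUnip.isUnit_add_one (h : IsRegUnip A) (h2 : (2 : F) ≠ 0) : IsUnit (A + 1) := by
  have hn : IsNilpotent (A - 1) := ⟨_, h.nil⟩
  have h1 := hn.isUnit_add_left_of_commute (u := (2 : F) • (1 : Matrix (Fin m ⊕ Fin m) (Fin m ⊕ Fin m) F))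
    (by
      refine ⟨⟨(2 : F) • 1, (2 : F)⁻¹ • 1, ?_, ?_⟩, rfl⟩ <;>
        rw [smul_mul_smul_comm, one_mul] <;> simp [h2])
    ((Commute.one_right _).smul_right _)
  rwa [show (2 : F) • (1 : Matrix (Fin m ⊕ Fin m) (Fin m ⊕ Fin m) F) + (A - 1) = A + 1 by
    rw [two_smul]; abel] at h1

theorem IsRegUnip.cayley_apply (h : IsRegUnip A) (h2 : (2 : F) ≠ 0) (x : Fin m ⊕ Fin m → F) :
    cayleyEnd A ((A + 1) *ᵥ x) = (A - 1) *ᵥ x := by
  show ((A - 1) * (A + 1)⁻¹) *ᵥ ((A + 1) *ᵥ x) = _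
  rw [Matrix.mulVec_mulVec, mul_assoc,
    Matrix.nonsing_inv_mul _ ((Matrix.isUnit_iff_isUnit_det _).1 (h.isUnit_add_one h2)), mul_one]

theorem IsRegUnip.surj_add_one (h : IsRegUnip A) (h2 : (2 : F) ≠ 0) (x : Fin m ⊕ Fin m → F) :
    ∃ y, x = (A + 1) *ᵥ y :=
  ⟨(A + 1)⁻¹ *ᵥ x, by
    rw [Matrix.mulVec_mulVec, Matrix.mul_nonsing_inv _
      ((Matrix.isUnit_iff_isUnit_det _).1 (h.isUnit_add_one h2)), Matrix.one_mulVec]⟩

theorem IsRegUnip.exists_regSkew (h : IsRegUnip A) (h2 : (2 : F) ≠ 0) (hm : 1 ≤ m) :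
    ∃ v, RegSkew (sympMap m F) (cayleyEnd A) (2 * m - 1) v ∧
      sympMap m F v ((cayleyEnd A ^ (2 * m - 1)) v) ≠ 0 := by
  classical
  have hu := h.isUnit_add_one h2
  have hdim : Module.finrank F (Fin m ⊕ Fin m → F) = 2 * m - 1 + 1 := by
    simp; omega
  have hcA : Commute (A - 1) (A + 1)⁻¹ := by
    obtain ⟨U, hU⟩ := hu
    rw [← hU, ← Matrix.coe_units_inv]
    refine Commute.units_inv_right ?_
    rw [hU]
    exact ((Commute.refl A).add_right (Commute.one_right A)).sub_left (Commute.one_left _)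
  have hnil : cayleyEnd A ^ (2 * m - 1 + 1) = 0 := by
    rw [cayleyEnd, ← map_pow, hcA.mul_pow, Nat.sub_add_cancel (by omega : 1 ≤ 2 * m), h.nil, zero_mul,
      map_zero]
  have hker : Module.finrank F (LinearMap.ker (cayleyEnd A)) ≤ 1 := by
    have h1 := LinearMap.finrank_range_add_finrank_ker (cayleyEnd A)
    have hr : Module.finrank F (LinearMap.range (cayleyEnd A)) = 2 * m - 1 := by
      show ((A - 1) * (A + 1)⁻¹).rank = _
      rw [Matrix.rank_mul_eq_left_of_isUnit_det _ _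
        (Matrix.isUnit_nonsing_inv_det _ ((Matrix.isUnit_iff_isUnit_det _).1 hu)), h.reg]
    omega
  obtain ⟨v, hv⟩ := exists_pow_apply_ne_zero _ hker hdim
  have hskew : ∀ x y, sympMap m F (cayleyEnd A x) y + sympMap m F x (cayleyEnd A y) = 0 := by
    intro x y
    obtain ⟨a, rfl⟩ := h.surj_add_one h2 x
    obtain ⟨b, rfl⟩ := h.surj_add_one h2 y
    rw [h.cayley_apply h2, h.cayley_apply h2, Matrix.sub_mulVec, Matrix.sub_mulVec, Matrix.add_mulVec,
      Matrix.add_mulVec, Matrix.one_mulVec, Matrix.one_mulVec]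
    simp only [map_add, map_sub, LinearMap.add_apply, LinearMap.sub_apply,
      (mem_symplecticGroup_iff A).1 h.mem]
    ring
  have hR : RegSkew (sympMap m F) (cayleyEnd A) (2 * m - 1) v := ⟨sympMap_alt, hskew, hdim, hnil, hv⟩
  refine ⟨v, hR, fun h0 => hv (sympMap_nondeg _ fun x => ?_)⟩
  let b := cyclicBasis _ hdim hnil v hv
  rw [← b.sum_repr x]
  simp only [map_sum, LinearMap.sum_apply, map_smul, LinearMap.smul_apply, smul_eq_mul, b,
    cyclicBasis_apply]
  refine Finset.sum_eq_zero fun i _ => ?_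
  rw [skew_pow hskew, ← Module.End.mul_apply, ← pow_add]
  rcases Nat.eq_zero_or_pos (i : ℕ) with h' | h'
  · rw [h', zero_add, h0, mul_zero, mul_zero]
  · rw [pow_eq_zero_of_le (by omega) hnil, LinearMap.zero_apply, map_zero, mul_zero, mul_zero]

theorem IsRegUnip.commute_iff (h : IsRegUnip A) (h2 : (2 : F) ≠ 0)
    (G : Matrix (Fin m ⊕ Fin m) (Fin m ⊕ Fin m) F) :
    Commute G A ↔ Commute (Matrix.toLinAlgEquiv' G) (cayleyEnd A) := by
  have hd := (Matrix.isUnit_iff_isUnit_det _).1 (h.isUnit_add_one h2)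
  constructor
  · intro hc
    refine Commute.map ?_ Matrix.toLinAlgEquiv'
    refine ((hc.sub_right (Commute.one_right _))).mul_right ?_
    obtain ⟨U, hU⟩ := h.isUnit_add_one h2
    rw [← hU, ← Matrix.coe_units_inv]
    exact Commute.units_inv_right (by rw [hU]; exact hc.add_right (Commute.one_right _))
  · intro hc
    have hc' : Commute G ((A - 1) * (A + 1)⁻¹) := by
      have := hc.map (Matrix.toLinAlgEquiv' (R := F) (n := Fin m ⊕ Fin m)).symm
      simpa [cayleyEnd] using this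
    set L := (A - 1) * (A + 1)⁻¹ with hL
    have h1 : L * (A + 1) = A - 1 := by rw [hL, mul_assoc, Matrix.nonsing_inv_mul _ hd, mul_one]
    have h2' : (1 - L) * A = 1 + L := by
      rw [sub_mul, one_mul]
      have : L * A + L = A - 1 := by rw [← h1, mul_add, mul_one]
      linear_combination (norm := noncomm_ring) -(1 : ℤ) • this
    have hu : IsUnit (1 - L) := by
      have : IsNilpotent L := by
        refine Commute.isNilpotent_mul_right ?_ ⟨_, h.nil⟩
        obtain ⟨U, hU⟩ := h.isUnit_add_one h2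
        rw [← hU, ← Matrix.coe_units_inv]
        refine Commute.units_inv_right ?_
        rw [hU]
        exact ((Commute.refl A).add_right (Commute.one_right A)).sub_left (Commute.one_left _)
      exact this.isUnit_one_sub
    refine hu.mul_left_cancel ?_
    calc (1 - L) * (G * A) = G * ((1 - L) * A) := by
          rw [← mul_assoc, ← mul_assoc, ((Commute.one_left G).sub_left hc'.symm).eq]
      _ = (1 + L) * G := by rw [h2', ((Commute.one_right G).add_right hc').eq]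
      _ = (1 - L) * (A * G) := by rw [← h2', mul_assoc]

theorem IsRegUnip.natCard_centralizer [Fintype F] (h2 : (2 : F) ≠ 0) (hm : 1 ≤ m)
    (u : Matrix.symplecticGroup (Fin m) F)
    (h : IsRegUnip (u : Matrix (Fin m ⊕ Fin m) (Fin m ⊕ Fin m) F)) :
    Nat.card ↥(Subgroup.centralizer ({u} : Set ↥(Matrix.symplecticGroup (Fin m) F))) =
      2 * Fintype.card F ^ m := by
  classical
  obtain ⟨v, hR, -⟩ := h.exists_regSkew h2 hm
  rw [← hR.natCard_commIsom (m := m) (by omega) h2 sympMap_nondeg]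
  let T : Matrix (Fin m ⊕ Fin m) (Fin m ⊕ Fin m) F ≃ₐ[F] Module.End F (Fin m ⊕ Fin m → F) :=
    Matrix.toLinAlgEquiv'
  have hmemC : ∀ g : Matrix.symplecticGroup (Fin m) F,
      g ∈ Subgroup.centralizer ({u} : Set ↥(Matrix.symplecticGroup (Fin m) F)) ↔
        Commute (T (g : Matrix (Fin m ⊕ Fin m) (Fin m ⊕ Fin m) F)) (cayleyEnd (u : Matrix _ _ F)) := by
    intro g
    rw [Subgroup.mem_centralizer_singleton_iff, ← h.commute_iff h2, Commute, SemiconjBy]
    exact ⟨fun e => congrArg Subtype.val e, fun e => Subtype.ext e⟩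
  refine Nat.card_congr
    { toFun := fun g => ⟨T (g.1 : Matrix (Fin m ⊕ Fin m) (Fin m ⊕ Fin m) F), (hmemC g.1).1 g.2,
        (mem_symplecticGroup_iff _).1 g.1.2⟩
      invFun := fun S => ⟨⟨T.symm S.1, (mem_symplecticGroup_iff _).2 fun x y => by
          have hx : ∀ z, (T.symm S.1) *ᵥ z = S.1 z := fun z =>
            LinearMap.congr_fun (T.apply_symm_apply S.1) z
          rw [hx, hx]; exact S.2.2 x y⟩,
        (hmemC _).2 (by show Commute (T (T.symm S.1)) _; rw [T.apply_symm_apply]; exact S.2.1)⟩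
      left_inv := fun g => Subtype.ext (Subtype.ext (T.symm_apply_apply _))
      right_inv := fun S => Subtype.ext (T.apply_symm_apply _) }

theorem conj_eq_of_cayley {A' : Matrix (Fin m ⊕ Fin m) (Fin m ⊕ Fin m) F} (h : IsRegUnip A)
    (h' : IsRegUnip A') (h2 : (2 : F) ≠ 0) (G : Matrix (Fin m ⊕ Fin m) (Fin m ⊕ Fin m) F)
    (hG : ∀ x, G *ᵥ cayleyEnd A x = cayleyEnd A' (G *ᵥ x)) (hinj : IsUnit G) : G * A = A' * G := by
  apply Matrix.ext_of_mulVec_single
  intro i
  set x : Fin m ⊕ Fin m → F := Pi.single i 1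
  have h1 := hG ((A + 1) *ᵥ x)
  rw [h.cayley_apply h2] at h1
  obtain ⟨y, hy⟩ := h'.surj_add_one h2 (G *ᵥ ((A + 1) *ᵥ x))
  rw [hy, h'.cayley_apply h2] at h1
  rw [Matrix.add_mulVec, Matrix.add_mulVec, Matrix.one_mulVec, Matrix.one_mulVec, Matrix.mulVec_add,
    Matrix.mulVec_mulVec] at hy
  rw [Matrix.sub_mulVec, Matrix.sub_mulVec, Matrix.one_mulVec, Matrix.one_mulVec, Matrix.mulVec_sub,
    Matrix.mulVec_mulVec] at h1
  have hy2 : G *ᵥ x = y := by
    refine smul_right_injective _ h2 ?_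
    show (2 : F) • (G *ᵥ x) = (2 : F) • y
    calc (2 : F) • (G *ᵥ x) = ((G * A) *ᵥ x + G *ᵥ x) - ((G * A) *ᵥ x - G *ᵥ x) := by
          rw [two_smul]; abel
      _ = _ := by rw [hy, h1, two_smul]; abel
  rw [hy2] at hy
  rw [← Matrix.mulVec_mulVec x A' G, hy2]
  exact add_right_cancel hy

end Cfsg.Agent.Lib.Similarity
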