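import Mathlib

/-!
Transvections: normal form, and the count of the commutant.
-/

set_option autoImplicit false

namespace Cfsg.Agent.Lib.Similarity

open Module

variable {F : Type*} [Field F]

/-- the model transvection minus one on `F × F × F^k` -/
def modelTrans (F : Type*) [Field F] (k : ℕ) : Module.End F (F × F × (Fin k → F)) :=
  LinearMap.prod (LinearMap.fst F F (Fin k → F) ∘ₗ LinearMap.snd F F (F × (Fin k → F))) 0

theorem modelTrans_apply {k : ℕ} (x : F × F × (Fin k → F)) :
    modelTrans F k x = (x.2.1, 0, 0) := rfl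

variable {V : Type*} [AddCommGroup V] [Module F V]

/-- the map attached to a vector off the axis and a family in the axis -/
def frameMap {k : ℕ} (φ : V →ₗ[F] F) (a v : V) (f : Fin k → V) : F × F × (Fin k → F) →ₗ[F] V :=
  LinearMap.coprod (LinearMap.toSpanSingleton F V (φ v • a))
    (LinearMap.coprod (LinearMap.toSpanSingleton F V v) (Fintype.linearCombination F f))

theorem frameMap_apply {k : ℕ} (φ : V →ₗ[F] F) (a v : V) (f : Fin k → V)
    (x : F × F × (Fin k → F)) :
    frameMap φ a v f x = x.1 • φ v • a + (x.2.1 • v + ∑ i, x.2.2 i • f i) := by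
  simp [frameMap, Fintype.linearCombination_apply]

variable [FiniteDimensional F V]

/-- the frames of a transvection -/
def TransFrame (k : ℕ) (φ : V →ₗ[F] F) (a : V) : Type _ :=
  {v : V // φ v ≠ 0} × {f : Fin k → V // (∀ i, φ (f i) = 0) ∧ LinearIndependent F (Fin.cons a f : Fin (k + 1) → V)}

theorem frameMap_bijective {k : ℕ} (φ : V →ₗ[F] F) (a : V) (ha : φ a = 0)
    (hV : Module.finrank F V = k + 2) (p : TransFrame k φ a) :
    Function.Bijective (frameMap φ a p.1.1 p.2.1) := by
  obtain ⟨⟨v, hv⟩, f, hf, hli⟩ := p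
  have hinj : Function.Injective (frameMap φ a v f) := by
    rw [← LinearMap.ker_eq_bot, LinearMap.ker_eq_bot']
    rintro ⟨x, y, c⟩ h
    rw [frameMap_apply] at h
    have hy : y = 0 := by
      have h1 := congrArg φ h
      simpa [ha, hf, map_sum, hv] using h1
    subst hy
    rw [zero_smul, zero_add, smul_smul] at h
    have h2 := Fintype.linearIndependent_iff.1 hli (Fin.cons (x * φ v) c)
      (by rw [Fin.sum_univ_succ]; simpa using h)
    have hx : x = 0 := by simpa [hv] using h2 0
    have hc : c = 0 := funext fun i => by simpa using h2 i.succ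
    rw [hx, hc]
    rfl
  refine ⟨hinj, (LinearMap.injective_iff_surjective_of_finrank_eq_finrank ?_).1 hinj⟩
  simp [hV]
  omega

/-- the intertwiners from the model to a transvection -/
def TransIso (k : ℕ) (N : Module.End F V) : Type _ :=
  {e : (F × F × (Fin k → F)) ≃ₗ[F] V // ∀ x, e (modelTrans F k x) = N (e x)}

theorem transIso_equiv_frame {k : ℕ} (N : Module.End F V) (φ : V →ₗ[F] F) (a : V)
    (hN : ∀ x, N x = φ x • a) (ha : φ a = 0) (ha0 : a ≠ 0) (hV : Module.finrank F V = k + 2) :
    Nonempty (TransFrame k φ a ≃ TransIso k N) := by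
  classical
  let g : TransFrame k φ a → TransIso k N := fun p =>
    ⟨LinearEquiv.ofBijective _ (frameMap_bijective φ a ha hV p), fun x => by
      show frameMap φ a p.1.1 p.2.1 _ = N (frameMap φ a p.1.1 p.2.1 x)
      rw [hN, frameMap_apply, frameMap_apply, modelTrans_apply]
      simp [ha, map_sum, p.2.2.1, mul_smul]⟩
  refine ⟨Equiv.ofBijective g ⟨?_, ?_⟩⟩
  · intro p p' h
    have h1 : ∀ x, frameMap φ a p.1.1 p.2.1 x = frameMap φ a p'.1.1 p'.2.1 x := fun x =>
      congrArg (fun e : TransIso k N => e.1 x) h
    refine Prod.ext (Subtype.ext ?_) (Subtype.ext (funext fun i => ?_))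
    · simpa [frameMap_apply] using h1 (0, 1, 0)
    · have h2 := h1 (0, 0, Pi.single i 1)
      simpa [frameMap_apply, Pi.single_apply] using h2
  · rintro ⟨e, he⟩
    let v := e (0, 1, 0)
    let f : Fin k → V := fun i => e (0, 0, Pi.single i 1)
    have hea : e (1, 0, 0) = φ v • a := by
      rw [← hN, ← he, modelTrans_apply]
    have hv : φ v ≠ 0 := by
      intro h
      have h2 := congrArg Prod.fst (e.injective (a₁ := (1, 0, 0)) (a₂ := 0)
        (by rw [hea, h, zero_smul, map_zero]))
      exact one_ne_zero h2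
    have hf : ∀ i, φ (f i) = 0 := by
      intro i
      have h := he (0, 0, Pi.single i 1)
      rw [hN, modelTrans_apply] at h
      have h0 : e ((0 : F), (0 : F), (0 : Fin k → F)) = 0 := map_zero e
      rw [h0] at h
      exact (smul_eq_zero.1 h.symm).resolve_right ha0
    have hsum : ∀ c : Fin k → F, e (0, 0, c) = ∑ i, c i • f i := by
      intro c
      let L : (Fin k → F) →ₗ[F] V :=
        e.toLinearMap ∘ₗ LinearMap.inr F F (F × (Fin k → F)) ∘ₗ LinearMap.inr F F (Fin k → F)
      show L c = _
      conv_lhs => rw [← (Pi.basisFun F (Fin k)).sum_repr c]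
      rw [map_sum]
      refine Finset.sum_congr rfl fun i _ => ?_
      rw [map_smul, Pi.basisFun_apply, Pi.basisFun_repr]
      rfl
    have he' : ∀ x : F × F × (Fin k → F), frameMap φ a v f x = e x := by
      intro x
      rw [frameMap_apply, ← hea, ← hsum, ← map_smul, ← map_smul, ← map_add, ← map_add]
      congr 1
      ext <;> simp
    have hli : LinearIndependent F (Fin.cons a f : Fin (k + 1) → V) := by
      rw [Fintype.linearIndependent_iff]
      intro c hc
      have h0 : frameMap φ a v f (c 0 / φ v, 0, fun i => c i.succ) = 0 := by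
        rw [← hc, Fin.sum_univ_succ, frameMap_apply]
        simp [smul_smul, div_mul_cancel₀ _ hv]
      rw [he', LinearEquiv.map_eq_zero_iff] at h0
      intro i
      refine Fin.cases ?_ (fun j => ?_) i
      · have := congrArg Prod.fst h0
        simpa [hv] using this
      · exact congrFun (congrArg (fun z : F × F × (Fin k → F) => z.2.2) h0) j
    exact ⟨(⟨v, hv⟩, ⟨f, hf, hli⟩), Subtype.ext (LinearEquiv.ext he')⟩

/-- transvection data -/
theorem exists_trans_data (N : Module.End F V) (h1 : Module.finrank F (LinearMap.range N) = 1)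
    (h2 : N * N = 0) :
    ∃ (φ : V →ₗ[F] F) (a : V), (∀ x, N x = φ x • a) ∧ φ a = 0 ∧ a ≠ 0 ∧ φ ≠ 0 := by
  obtain ⟨a, ha0, hspan⟩ := finrank_eq_one_iff'.1 h1
  have ha0' : (a : V) ≠ 0 := fun h => ha0 (Subtype.ext h)
  let ψ : LinearMap.range N ≃ₗ[F] F := (LinearEquiv.toSpanNonzeroSingleton F _ a ha0 ≪≫ₗ
    LinearEquiv.ofTop _ (Submodule.eq_top_iff'.2 fun w => by
      obtain ⟨c, hc⟩ := hspan w
      exact Submodule.mem_span_singleton.2 ⟨c, hc⟩)).symm
  let φ : V →ₗ[F] F := ψ.toLinearMap ∘ₗ N.rangeRestrict
  have hφ : ∀ x, N x = φ x • (a : V) := by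
    intro x
    have h := ψ.symm_apply_apply (N.rangeRestrict x)
    have h' := congrArg Subtype.val h
    exact h'.symm
  refine ⟨φ, a, hφ, ?_, ha0', ?_⟩
  · obtain ⟨u, hu⟩ := a.2
    have h : N (a : V) = 0 := by
      rw [← hu, ← Module.End.mul_apply, h2, LinearMap.zero_apply]
    rw [hφ] at h
    exact (smul_eq_zero.1 h).resolve_right ha0'
  · intro h
    obtain ⟨u, hu⟩ := a.2
    apply ha0'
    rw [← hu, hφ, h, LinearMap.zero_apply, zero_smul]

theorem finrank_ker_of_ne_zero {k : ℕ} (φ : V →ₗ[F] F) (h : φ ≠ 0)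
    (hV : Module.finrank F V = k + 2) : Module.finrank F (LinearMap.ker φ) = k + 1 := by
  have h1 := LinearMap.finrank_range_add_finrank_ker φ
  have h2 : Module.finrank F (LinearMap.range φ) = 1 := by
    rw [LinearMap.range_eq_top.2 (LinearMap.surjective_of_ne_zero h), finrank_top, Module.finrank_self]
  omega

theorem nonempty_transFrame {k : ℕ} (φ : V →ₗ[F] F) (a : V) (h : φ ≠ 0) (ha : φ a = 0)
    (ha0 : a ≠ 0) (hV : Module.finrank F V = k + 2) : Nonempty (TransFrame k φ a) := by
  obtain ⟨v, hv⟩ : ∃ v, φ v ≠ 0 := by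
    by_contra hc
    push Not at hc
    exact h (LinearMap.ext hc)
  let a' : LinearMap.ker φ := ⟨a, ha⟩
  obtain ⟨K, hK⟩ := Submodule.exists_isCompl (Submodule.span F {a'})
  have hdim : Module.finrank F K = k := by
    have h1 := Submodule.finrank_add_eq_of_isCompl hK
    rw [finrank_span_singleton (fun h' => ha0 (congrArg Subtype.val h')),
      finrank_ker_of_ne_zero φ h hV] at h1
    omega
  let b := Module.finBasisOfFinrankEq F K hdim
  refine ⟨(⟨v, hv⟩, ⟨fun i => ((b i : LinearMap.ker φ) : V), fun i => (b i : LinearMap.ker φ).2, ?_⟩)⟩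
  have : LinearIndependent F (Fin.cons a' (fun i => (b i : LinearMap.ker φ)) :
      Fin (k + 1) → LinearMap.ker φ) := by
    rw [linearIndependent_finCons]
    refine ⟨b.linearIndependent.map' K.subtype K.ker_subtype, fun hmem => ?_⟩
    have hle : Submodule.span F (Set.range fun i => (b i : LinearMap.ker φ)) ≤ K :=
      Submodule.span_le.2 (by rintro _ ⟨i, rfl⟩; exact (b i).2)
    have := hK.disjoint.le_bot (show a' ∈ Submodule.span F {a'} ⊓ K from
      ⟨Submodule.mem_span_singleton_self _, hle hmem⟩)
    exact ha0 (congrArg Subtype.val (Submodule.mem_bot F |>.1 this))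
  have h2 := this.map' (LinearMap.ker φ).subtype (LinearMap.ker φ).ker_subtype
  have heq : (fun i => ((Fin.cons a' (fun i => (b i : LinearMap.ker φ)) :
      Fin (k + 1) → LinearMap.ker φ) i : V)) =
      (Fin.cons a (fun i => ((b i : LinearMap.ker φ) : V)) : Fin (k + 1) → V) := by
    funext i
    refine Fin.cases ?_ (fun j => ?_) i <;> simp [a']
  exact heq ▸ h2

theorem natCard_transFrame [Fintype F] {k : ℕ} (φ : V →ₗ[F] F) (a : V) (h : φ ≠ 0) (ha : φ a = 0)
    (ha0 : a ≠ 0) (hV : Module.finrank F V = k + 2) :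
    Nat.card (TransFrame k φ a) = (Fintype.card F ^ (k + 2) - Fintype.card F ^ (k + 1)) *
      (Fintype.card F ^ k * ∏ i : Fin k, (Fintype.card F ^ k - Fintype.card F ^ (i : ℕ))) := by
  classical
  haveI : Finite V := Module.finite_of_finite F
  haveI : Fintype V := Fintype.ofFinite V
  show Nat.card ({v : V // φ v ≠ 0} × _) = _
  rw [Nat.card_prod]
  congr 1
  · rw [Nat.card_eq_fintype_card, Fintype.card_subtype_compl, ← Nat.card_eq_fintype_card,
      ← Nat.card_eq_fintype_card]
    show Nat.card V - Nat.card (LinearMap.ker φ) = _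
    rw [Module.natCard_eq_pow_finrank (K := F) (V := V),
      Module.natCard_eq_pow_finrank (K := F) (V := LinearMap.ker φ), hV,
      finrank_ker_of_ne_zero φ h hV, Nat.card_eq_fintype_card]
  · let a' : LinearMap.ker φ := ⟨a, ha⟩
    obtain ⟨K, hK⟩ := Submodule.exists_isCompl (Submodule.span F {a'})
    have hne : a' ≠ 0 := fun h' => ha0 (congrArg Subtype.val h')
    have hdim : Module.finrank F K = k := by
      have h1 := Submodule.finrank_add_eq_of_isCompl hK
      rw [finrank_span_singleton hne, finrank_ker_of_ne_zero φ h hV] at h1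
      omega
    let E : (F × K) ≃ₗ[F] LinearMap.ker φ :=
      ((LinearEquiv.toSpanNonzeroSingleton F _ a' hne).prodCongr (LinearEquiv.refl F K)) ≪≫ₗ
        Submodule.prodEquivOfIsCompl _ _ hK
    have hE : ∀ c (w : K), E (c, w) = c • a' + (w : LinearMap.ker φ) := fun c w => rfl
    have key : ∀ (c : Fin k → F) (w : Fin k → K),
        LinearIndependent F (Fin.cons a (fun i => ((E (c i, w i) : LinearMap.ker φ) : V)) :
          Fin (k + 1) → V) ↔ LinearIndependent F w := by
      intro c w
      rw [Fintype.linearIndependent_iff, Fintype.linearIndependent_iff]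
      have hrw : ∀ d : Fin (k + 1) → F,
          (∑ i, d i • (Fin.cons a (fun i => ((E (c i, w i) : LinearMap.ker φ) : V)) :
              Fin (k + 1) → V) i) =
            ((E (d 0 + ∑ i : Fin k, d i.succ * c i, ∑ i : Fin k, d i.succ • w i) :
              LinearMap.ker φ) : V) := by
        intro d
        rw [Fin.sum_univ_succ]
        simp only [Fin.cons_zero, Fin.cons_succ, hE, Submodule.coe_add, Submodule.coe_smul,
          Submodule.coe_sum, add_smul, Finset.sum_smul, smul_add, smul_smul,
          Finset.sum_add_distrib, a']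
        rw [add_assoc]
      constructor
      · intro H d hd i
        have h3 := H (Fin.cons (-∑ i : Fin k, d i * c i) d) (by
          rw [hrw]
          simp only [Fin.cons_zero, Fin.cons_succ, neg_add_cancel, hd]
          rw [show ((0 : F), (0 : K)) = 0 from rfl, map_zero]
          rfl) i.succ
        simpa using h3
      · intro H d hd
        rw [hrw] at hd
        have h3 := E.map_eq_zero_iff.1 (Subtype.ext hd)
        rw [Prod.mk_eq_zero] at h3
        have h4 := H _ h3.2
        have h5 : d 0 = 0 := by simpa [h4] using h3.1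
        intro i
        exact Fin.cases h5 h4 i
    let Φ : {f : Fin k → V // (∀ i, φ (f i) = 0) ∧
        LinearIndependent F (Fin.cons a f : Fin (k + 1) → V)} ≃
          (Fin k → F) × {w : Fin k → K // LinearIndependent F w} :=
      { toFun := fun f => ⟨fun i => (E.symm ⟨f.1 i, f.2.1 i⟩).1,
          ⟨fun i => (E.symm ⟨f.1 i, f.2.1 i⟩).2,
            (key _ _).1 (Eq.subst (motive := fun g : Fin k → V =>
                LinearIndependent F (Fin.cons a g : Fin (k + 1) → V))
              (funext fun i => (congrArg Subtype.val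
                (E.apply_symm_apply (⟨f.1 i, f.2.1 i⟩ : LinearMap.ker φ))).symm) f.2.2)⟩⟩
        invFun := fun p => ⟨fun i => ((E (p.1 i, p.2.1 i) : LinearMap.ker φ) : V),
          fun i => (E (p.1 i, p.2.1 i)).2, (key _ _).2 p.2.2⟩
        left_inv := fun f => by
          refine Subtype.ext (funext fun i => ?_)
          exact congrArg Subtype.val (E.apply_symm_apply _)
        right_inv := fun p => by
          obtain ⟨c, w, hw⟩ := p
          refine Prod.ext (funext fun i => ?_) (Subtype.ext (funext fun i => ?_))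
          · exact congrArg Prod.fst (E.symm_apply_apply (c i, w i))
          · exact congrArg Prod.snd (E.symm_apply_apply (c i, w i)) }
    rw [Nat.card_congr Φ, Nat.card_prod, card_linearIndependent (le_of_eq hdim.symm), hdim,
      Nat.card_fun, Nat.card_eq_fintype_card, Nat.card_fin]

end Cfsg.Agent.Lib.Similarity
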